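import Cfsg.Agent.H740.Eight.Tits
import Cfsg.Agent.H33.IM

/-!
# S4844, row of the Tits group: `675 = 3³ 5²` is an irreducible degree
-/

set_option autoImplicit false

namespace Cfsg.Agent.H628.Sq.Tits

open Cfsg

universe u

/-- transport of a degree, abstract -/
theorem mem_675_aux {S : Type u} [Group S] {A : Type} [Group A] (T : Subgroup A)
    (e : Nonempty (S ≃* commutator T)) (hd : 675 ∈ charDegrees T)
    (hdown : ∀ d ∈ charDegrees T, ∃ c ∈ charDegrees (commutator T), c = d ∨ 2 * c = d) : 675 ∈ charDegrees S := by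
  obtain ⟨c, hc, h1⟩ := hdown _ hd
  obtain rfl : c = 675 := by omega
  exact H740.Eight.Tits.mem_of_equiv T e hc

theorem mem_675 {S : Type u} [Group S] (h : Lie.IsoTits S) : 675 ∈ charDegrees S :=
  mem_675_aux (Cfsg.Lie.twistedF4 (ZMod 2) 1) h H740.Eight.Tits.degs.2.2.1 fun _ hd => H740.Eight.Tits.down hd

theorem card_tits {S : Type u} [Group S] (h : Lie.IsoTits S) : Nat.card S = 17971200 := by
  obtain ⟨e⟩ := h
  have h3 : Nat.card (commutator ↥(Cfsg.Lie.twistedF4 (ZMod 2) 1)) = 2 ^ 11 * 3 ^ 3 * 5 ^ 2 * 13 :=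
    Cfsg.Agent.S1074.result.2.2.2
  rw [Nat.card_congr e.toEquiv]
  refine h3.trans ?_
  norm_num

/-- **S4844, row of the Tits group.** -/
theorem sq_tits {S : Type u} [Group S] [Finite S] (h : Lie.IsoTits S) (_hs : IsSimpleGroup S) {p : ℕ}
    [hp : Fact p.Prime] (hp2 : p ≠ 2) (hd : p ^ 2 ∣ Nat.card S) : H33.IM (p ^ 2) S := by
  obtain ⟨χ, h1⟩ := mem_675 h
  refine ⟨χ, ?_⟩
  rw [h1]
  rw [card_tits h] at hd
  have hp1 : p ∣ 17971200 := (dvd_pow_self p two_ne_zero).trans hd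
  have h2 : p = 2 ∨ p = 3 ∨ p = 5 ∨ p = 13 := by
    have e : (17971200 : ℕ) = 2 ^ 11 * 3 ^ 3 * 5 ^ 2 * 13 := by norm_num
    rw [e] at hp1
    rcases hp.out.dvd_mul.1 hp1 with h | h
    · rcases hp.out.dvd_mul.1 h with h | h
      · rcases hp.out.dvd_mul.1 h with h | h
        · exact Or.inl ((Nat.prime_dvd_prime_iff_eq hp.out Nat.prime_two).1 (hp.out.dvd_of_dvd_pow h))
        · exact Or.inr (Or.inl ((Nat.prime_dvd_prime_iff_eq hp.out Nat.prime_three).1 (hp.out.dvd_of_dvd_pow h)))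
      · exact Or.inr (Or.inr (Or.inl ((Nat.prime_dvd_prime_iff_eq hp.out (by norm_num)).1 (hp.out.dvd_of_dvd_pow h))))
    · exact Or.inr (Or.inr (Or.inr ((Nat.prime_dvd_prime_iff_eq hp.out (by norm_num)).1 h)))
  rcases h2 with rfl | rfl | rfl | rfl
  · exact absurd rfl hp2
  · norm_num
  · norm_num
  · norm_num at hd

end Cfsg.Agent.H628.Sq.Tits
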