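import Cfsg.Agent.H628.Sq.NormLe
import Cfsg.Agent.H732.RankOneGG

/-!
# Linear characters of a Borel subgroup

* `norm_lin` : `‖Ind_B θ‖² ≤ n` if the double cosets of `B` come in `n` pairs, the elements of a pair act inversely on
  the torus, and `θ² ≠ 1`;
* `exists_lin` : a character of `G` with fixed vectors under `U` contains a linear character of `B / U`;
* `irr_of_sum_ne_zero` : constituents with fixed vectors;
* `kernel_of_sum_ne_zero` : an irreducible character with fixed vectors under a normal subgroup.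
-/

set_option autoImplicit false

open scoped ComplexConjugate
open Cfsg

namespace Cfsg.Agent.H628.Sq.Lin

open Cfsg.Agent.OddOrderCharacters.Clifford Cfsg.Agent.Characters Cfsg.Agent.H628.Sq.NormLe
open Cfsg.Agent.CharactersDeep.MackeyLinear

universe u

variable {G : Type u} [Group G]

theorem norm_hom {T : Type*} [Group T] [Finite T] (f : T →* ℂˣ) (t : T) : ‖((f t : ℂˣ) : ℂ)‖ = 1 := by
  have h1 : ((f t : ℂˣ) : ℂ) ^ Nat.card T = 1 := by
    rw [← Units.val_pow_eq_pow_val, ← map_pow, pow_card_eq_one', map_one, Units.val_one]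
  exact Complex.norm_eq_one_of_pow_eq_one h1 Nat.card_pos.ne'

/-- the trivial bound of the Mackey term -/
theorem twist_le_card [Finite G] (B : Subgroup G) [Fintype B] (θ : B →* ℂˣ) (x : G) :
    ‖twist B (fun t => (θ t : ℂ)) (fun t => (θ t : ℂ)) x‖ ≤ 1 * Nat.card (dsub B x) := by
  classical
  have : Fintype (dsub B x) := Fintype.ofFinite _
  have h1 : twist B (fun t => (θ t : ℂ)) (fun t => (θ t : ℂ)) x =
      ∑ d : dsub B x, (θ d : ℂ) * conj (θ ⟨x⁻¹ * ((d : B) : G) * x, (mem_dsub B x d).1 d.2⟩ : ℂ) := by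
    rw [twist_def, sum_eq_sum_subgroup (dsub B x)]
    · refine Finset.sum_congr rfl fun d _ => ?_
      rw [ext_apply_mem B _ _ ((mem_dsub B x d).1 d.2)]
    · intro t ht
      rw [mem_dsub] at ht
      rw [ext_apply_not_mem B _ _ ht, map_zero, mul_zero]
  rw [h1]
  refine (norm_sum_le _ _).trans (le_of_eq ?_)
  rw [Finset.sum_congr rfl (g := fun _ => (1 : ℝ))]
  · rw [Finset.sum_const, Finset.card_univ, ← Nat.card_eq_fintype_card, nsmul_eq_mul, mul_one, one_mul]
  · intro d _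
    rw [norm_mul, RCLike.norm_conj, norm_hom, norm_hom, mul_one]

/-- **The norm of `Ind_B θ`.** -/
theorem norm_lin [Fintype G] (B T : Subgroup G) [Fintype B] (hTB : T ≤ B) {ι : Type*} [Fintype ι] (r : ι → Bool → G)
    (hr : ∀ x, ∃ i c, ∃ a ∈ B, ∃ b ∈ B, x = a * r i c * b)
    (hT : ∀ i c, ∀ t ∈ T, (r i c)⁻¹ * t * r i c ∈ T)
    (hinv : ∀ i, ∀ t ∈ T, (r i true)⁻¹ * t * r i true = ((r i false)⁻¹ * t * r i false)⁻¹)
    (θ : B →* ℂˣ) (hθ : ∃ (t : G) (ht : t ∈ T), θ ⟨t, hTB ht⟩ * θ ⟨t, hTB ht⟩ ≠ 1) :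
    ‖classInner (indFun B (fun t => (θ t : ℂ))) (indFun B (fun t => (θ t : ℂ)))‖ ≤ Fintype.card ι := by
  classical
  have hcl : IsClassFunction B (fun t => (θ t : ℂ)) :=
    Core.isIrr_isClassFunction (Characters.Linear.isIrrCharacter_hom θ)
  set w : G → ℂ := twist B (fun t => (θ t : ℂ)) (fun t => (θ t : ℂ)) with hw
  have key := norm_le B hcl (ι := ι × Bool) (fun p => r p.1 p.2) (fun p => if w (r p.1 p.2) = 0 then 0 else 1) ?_ ?_
  · refine key.trans ?_
    rw [Fintype.sum_prod_type]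
    have h1 : ∀ i, ∑ c : Bool, (if w (r i c) = 0 then (0 : ℝ) else 1) ≤ 1 := by
      intro i
      rw [Fintype.sum_bool]
      by_cases h1 : w (r i true) = 0
      · rw [if_pos h1]
        split_ifs <;> norm_num
      · by_cases h2 : w (r i false) = 0
        · rw [if_pos h2]
          split_ifs; norm_num
        · exfalso
          have e1 : ∀ t (ht : t ∈ T), θ ⟨t, hTB ht⟩ = θ ⟨_, hTB (hT i true t ht)⟩ := by
            intro t ht
            by_contra hne
            exact h1 (twist_eq_zero B θ (r i true) ⟨⟨t, hTB ht⟩, hTB (hT i true t ht), hne⟩)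
          have e2 : ∀ t (ht : t ∈ T), θ ⟨t, hTB ht⟩ = θ ⟨_, hTB (hT i false t ht)⟩ := by
            intro t ht
            by_contra hne
            exact h2 (twist_eq_zero B θ (r i false) ⟨⟨t, hTB ht⟩, hTB (hT i false t ht), hne⟩)
          obtain ⟨t, ht, hne⟩ := hθ
          apply hne
          have e3 : (⟨_, hTB (hT i true t ht)⟩ : B) = (⟨_, hTB (hT i false t ht)⟩ : B)⁻¹ :=
            Subtype.ext (hinv i t ht)
          calc θ ⟨t, hTB ht⟩ * θ ⟨t, hTB ht⟩ = θ ⟨_, hTB (hT i true t ht)⟩ * θ ⟨_, hTB (hT i false t ht)⟩ := by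
                rw [← e1 t ht, ← e2 t ht]
            _ = 1 := by rw [e3, map_inv, inv_mul_cancel]
    calc ∑ i, ∑ c : Bool, (if w (r i c) = 0 then (0 : ℝ) else 1) ≤ ∑ _i : ι, (1 : ℝ) :=
          Finset.sum_le_sum fun i _ => h1 i
      _ = _ := by rw [Finset.sum_const, Finset.card_univ, nsmul_eq_mul, mul_one]
  · intro x
    obtain ⟨i, c, h⟩ := hr x
    exact ⟨(i, c), h⟩
  · rintro ⟨i, c⟩
    show ‖w (r i c)‖ ≤ (if w (r i c) = 0 then (0 : ℝ) else 1) * _
    split_ifs with h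
    · rw [h, norm_zero, zero_mul]
    · exact twist_le_card B θ (r i c)

/-! ### constituents with fixed vectors -/

/-- a constituent with fixed vectors -/
theorem irr_of_sum_ne_zero {P : Type*} [Group P] [Fintype P] {Θ : P → ℂ} (hΘ : IsCharacter P Θ) {K : Type*}
    [Fintype K] (j : K → P) (h : ∑ k : K, Θ (j k) ≠ 0) :
    ∃ τ : P → ℂ, IsIrrCharacter P τ ∧ classInner Θ τ ≠ 0 ∧ ∑ k : K, τ (j k) ≠ 0 := by
  classical
  have : Finite (IrrCharacter P) := Core.finite_irr
  let _ : Fintype (IrrCharacter P) := Fintype.ofFinite _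
  obtain ⟨m, hm⟩ := Core.isCharacter_iff.1 hΘ
  by_contra hcon
  push Not at hcon
  apply h
  have h1 : ∑ k : K, Θ (j k) = ∑ τ : IrrCharacter P, (m τ : ℂ) * ∑ k : K, (τ : P → ℂ) (j k) := by
    simp only [Finset.mul_sum]
    rw [Finset.sum_comm]
    refine Finset.sum_congr rfl fun k _ => ?_
    rw [hm, Finset.sum_apply]
    exact Finset.sum_congr rfl fun τ _ => by rw [Pi.smul_apply, nsmul_eq_mul]
  rw [h1]
  refine Finset.sum_eq_zero fun τ _ => ?_
  by_cases h0 : m τ = 0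
  · rw [h0, Nat.cast_zero, zero_mul]
  · rw [hcon τ τ.2 (by
      have e2 : classInner Θ (τ : P → ℂ) = m τ := by
        rw [hm]; exact Core.classInner_sum_nsmul_irr m τ
      rw [e2]
      exact_mod_cast h0), mul_zero]

/-- `∑ ≥ 0` -/
theorem sum_nat {P : Type*} [Group P] {Θ : P → ℂ} (hΘ : IsCharacter P Θ) (K : Subgroup P) [Fintype K] :
    ∃ n : ℕ, ∑ k : K, Θ k = Nat.card K * n := by
  obtain ⟨n, hn⟩ := Core.classInner_isNat (Core.isCharacter_comp K.subtype hΘ) (Core.isCharacter_one (G := K))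
  refine ⟨n, ?_⟩
  rw [classInner_apply, inv_mul_eq_iff_eq_mul₀ card_ne_zero'] at hn
  rw [← hn]
  refine Finset.sum_congr rfl fun k _ => ?_
  simp

/-- an irreducible character with fixed vectors under a normal subgroup -/
theorem kernel_of_sum_ne_zero {P : Type*} [Group P] [Finite P] {τ : P → ℂ} (hτ : IsIrrCharacter P τ) (K : Subgroup P)
    [Fintype K] (hK : ∀ g, ∀ k ∈ K, g * k * g⁻¹ ∈ K) (h : ∑ k : K, τ k ≠ 0) (g : P) {k : P} (hk : k ∈ K) :
    τ (g * k) = τ g := by
  classical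
  obtain ⟨n, ρ, hρ, rfl⟩ := hτ
  have hn : ∀ x : P, ∀ u, u ∈ K ↔ x * u * x⁻¹ ∈ K := by
    intro x u
    refine ⟨hK x u, fun h1 => ?_⟩
    have := hK x⁻¹ _ h1
    rwa [show x⁻¹ * (x * u * x⁻¹) * x⁻¹⁻¹ = u by group] at this
  -- the range of `Z` is invariant
  have hZ : H710.Cuspidal.Z ρ K ≠ 0 := by
    intro h0
    apply h
    have : ∑ u : K, ρ.character u = LinearMap.trace ℂ (Fin n → ℂ) (H710.Cuspidal.Z ρ K) := by
      rw [H710.Cuspidal.Z, map_sum]
      rfl
    rw [this, h0, map_zero]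
  have hcomm : ∀ x, ρ x * H710.Cuspidal.Z ρ K = H710.Cuspidal.Z ρ K * ρ x := fun x =>
    H710.Cuspidal.rho_comm_Z ρ K (hn x)
  let U : Subrepresentation ρ :=
    { toSubmodule := LinearMap.range (H710.Cuspidal.Z ρ K)
      apply_mem_toSubmodule := by
        rintro x _ ⟨v, rfl⟩
        refine ⟨ρ x v, ?_⟩
        exact (LinearMap.congr_fun (hcomm x) v).symm }
  have hU : U = ⊤ := by
    rcases IsSimpleOrder.eq_bot_or_eq_top U with h1 | h1
    · exfalso
      apply hZ
      have h2 : U.toSubmodule = ⊥ := by rw [h1]; rfl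
      exact LinearMap.range_eq_bot.1 h2
    · exact h1
  have hk1 : ρ k = 1 := by
    refine LinearMap.ext fun v => ?_
    have hv : v ∈ U.toSubmodule := by rw [hU]; exact Submodule.mem_top
    obtain ⟨w, hw⟩ := hv
    show ρ k v = v
    rw [← hw]
    exact LinearMap.congr_fun (H710.Cuspidal.rho_mul_Z ρ K hk) w
  show LinearMap.trace ℂ _ (ρ (g * k)) = LinearMap.trace ℂ _ (ρ g)
  rw [map_mul, hk1, mul_one]

/-- **a linear character of `B / U`** in a character of `B` with fixed vectors under `U` -/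
theorem exists_lin {B : Type*} [Group B] [Fintype B] {Θ : B → ℂ} (hΘ : IsCharacter B Θ) (U : Subgroup B) [Fintype U]
    (hU : ∀ g, ∀ u ∈ U, g * u * g⁻¹ ∈ U) (hab : ∀ h k : B, ∃ u ∈ U, h * k = k * h * u) (h : ∑ u : U, Θ u ≠ 0) :
    ∃ θ : B →* ℂˣ, (∀ u ∈ U, θ u = 1) ∧ classInner Θ (fun b => (θ b : ℂ)) ≠ 0 := by
  obtain ⟨τ, hτ, h1, h2⟩ := irr_of_sum_ne_zero hΘ (fun u : U => (u : B)) h
  have h3 := H732.RankOneGG.degree_one U hU hab hτ h2
  obtain ⟨θ, hθ⟩ := Characters.Linear.exists_hom_of_isIrrCharacter hτ h3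
  refine ⟨θ, fun u hu => ?_, ?_⟩
  · have h4 := kernel_of_sum_ne_zero hτ U hU h2 1 hu
    rw [one_mul, hθ] at h4
    simp only [map_one, Units.val_one] at h4
    exact Units.ext (by rw [h4, Units.val_one])
  · rw [← hθ]
    exact h1

end Cfsg.Agent.H628.Sq.Lin
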