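import Cfsg.Agent.H53.HC.Rgd

/-!
# Upper bounds for the norm of an induced character (Mackey)

* `norm_le` : `‖Ind ψ‖² ≤ ∑ m i` if the Mackey terms at representatives `r i` of the double cosets are `≤ m i`;
* `inner_le_comp` : restriction does not decrease the inner product of two characters;
* `twist_le_of_sub` : an upper bound for the Mackey term from a subgroup of `T ∩ x T x⁻¹`;
* `card_le_norm` : the number of irreducible constituents is at most the norm.
-/

set_option autoImplicit false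

open scoped ComplexConjugate
open Cfsg

namespace Cfsg.Agent.H628.Sq.NormLe

open Cfsg.Agent.OddOrderCharacters.Clifford Cfsg.Agent.Characters Cfsg.Agent.H53.HC

universe u

variable {G : Type u} [Group G]

theorem card_dcoset [Finite G] (T : Subgroup G) (r : G) :
    Nat.card {x : G // ∃ a ∈ T, ∃ b ∈ T, x = a * r * b} * Nat.card (dsub T r) ≤ Nat.card T * Nat.card T := by
  classical
  rw [← Nat.card_prod, ← Nat.card_prod]
  choose a ha b hb hab using fun x : {x : G // ∃ a ∈ T, ∃ b ∈ T, x = a * r * b} => x.2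
  refine Nat.card_le_card_of_injective (fun p : {x : G // ∃ a ∈ T, ∃ b ∈ T, x = a * r * b} × dsub T r =>
    ((⟨a p.1 * (p.2 : T), mul_mem (ha p.1) (p.2 : T).2⟩ : T),
      (⟨(r⁻¹ * ((p.2 : T) : G) * r)⁻¹ * b p.1, mul_mem (inv_mem ((mem_dsub T r _).1 p.2.2)) (hb p.1)⟩ : T))) ?_
  rintro ⟨x, d⟩ ⟨x', d'⟩ h
  have h1 : a x * ((d : T) : G) = a x' * ((d' : T) : G) := congrArg (fun p : T × T => (p.1 : G)) h
  have h2 : (r⁻¹ * ((d : T) : G) * r)⁻¹ * b x = (r⁻¹ * ((d' : T) : G) * r)⁻¹ * b x' :=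
    congrArg (fun p : T × T => (p.2 : G)) h
  have h3 : (x : G) = x' := by
    have e : ∀ (z : {x : G // ∃ a ∈ T, ∃ b ∈ T, x = a * r * b}) (d : T),
        (z : G) = (a z * (d : G)) * r * ((r⁻¹ * (d : G) * r)⁻¹ * b z) := by
      intro z d
      nth_rw 1 [hab z]
      group
    rw [e x d, h1, h2, ← e x' d']
  have h4 : x = x' := Subtype.ext h3
  subst h4
  have h5 : ((d : T) : G) = ((d' : T) : G) := mul_left_cancel h1
  exact Prod.ext rfl (Subtype.ext (Subtype.ext h5))

/-- **Mackey's formula, upper bound** -/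
theorem norm_le [Fintype G] (T : Subgroup G) [Fintype T] {ψ : T → ℂ} (hψ : IsClassFunction T ψ) {ι : Type*}
    [Fintype ι] (r : ι → G) (m : ι → ℝ) (hr : ∀ x, ∃ i, ∃ a ∈ T, ∃ b ∈ T, x = a * r i * b)
    (hm : ∀ i, ‖twist T ψ ψ (r i)‖ ≤ m i * Nat.card (dsub T (r i))) :
    ‖classInner (indFun T ψ) (indFun T ψ)‖ ≤ ∑ i, m i := by
  classical
  have hT0 : (0 : ℝ) < Nat.card T := by exact_mod_cast Nat.card_pos
  have hm0 : ∀ i, 0 ≤ m i := by
    intro i
    have h1 := (norm_nonneg _).trans (hm i)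
    have h2 : (0 : ℝ) < Nat.card (dsub T (r i)) := by exact_mod_cast Nat.card_pos
    by_contra h3
    push Not at h3
    have := mul_neg_of_neg_of_pos h3 h2
    linarith
  let D : ι → Finset G := fun i => Finset.univ.filter fun x => ∃ a ∈ T, ∃ b ∈ T, x = a * r i * b
  have h1 : ∑ x : G, ‖twist T ψ ψ x‖ ≤ ∑ i, ∑ x ∈ D i, ‖twist T ψ ψ x‖ := by
    have h2 : ∀ x : G, ‖twist T ψ ψ x‖ ≤ ∑ i, if x ∈ D i then ‖twist T ψ ψ x‖ else 0 := by
      intro x
      obtain ⟨i, h⟩ := hr x
      have hx : x ∈ D i := Finset.mem_filter.2 ⟨Finset.mem_univ _, h⟩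
      have h3 : ∀ j ∈ Finset.univ, 0 ≤ if x ∈ D j then ‖twist T ψ ψ x‖ else 0 := by
        intro j _
        split_ifs
        · exact norm_nonneg _
        · exact le_rfl
      refine le_trans (le_of_eq ?_) (Finset.single_le_sum h3 (Finset.mem_univ i))
      rw [if_pos hx]
    refine (Finset.sum_le_sum fun x _ => h2 x).trans (le_of_eq ?_)
    rw [Finset.sum_comm]
    refine Finset.sum_congr rfl fun i _ => ?_
    rw [Finset.sum_ite_mem, Finset.univ_inter]
  have h2 : ∀ i, ∑ x ∈ D i, ‖twist T ψ ψ x‖ ≤ m i * (Nat.card T * Nat.card T) := by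
    intro i
    have h3 : ∀ x ∈ D i, ‖twist T ψ ψ x‖ = ‖twist T ψ ψ (r i)‖ := by
      intro x hx
      obtain ⟨-, a, ha, b, hb, rfl⟩ := Finset.mem_filter.1 hx
      rw [twist_mul T hψ hψ ha hb]
    rw [Finset.sum_congr rfl h3, Finset.sum_const, nsmul_eq_mul]
    have h4 : ((D i).card : ℝ) * Nat.card (dsub T (r i)) ≤ Nat.card T * Nat.card T := by
      have := card_dcoset T (r i)
      rw [Nat.card_eq_fintype_card, Fintype.card_subtype] at this
      exact_mod_cast this
    calc ((D i).card : ℝ) * ‖twist T ψ ψ (r i)‖ ≤ (D i).card * (m i * Nat.card (dsub T (r i))) := by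
          gcongr
          exact hm i
      _ = m i * ((D i).card * Nat.card (dsub T (r i))) := by ring
      _ ≤ _ := by gcongr; exact hm0 i
  rw [classInner_indFun_indFun, norm_mul, norm_mul, norm_inv, Complex.norm_natCast]
  have h3 : ‖∑ x : G, twist T ψ ψ x‖ ≤ (∑ i, m i) * (Nat.card T * Nat.card T) := by
    refine (norm_sum_le _ _).trans (h1.trans ?_)
    rw [Finset.sum_mul]
    exact Finset.sum_le_sum fun i _ => h2 i
  rw [inv_mul_le_iff₀ hT0, inv_mul_le_iff₀ hT0]
  refine h3.trans (le_of_eq ?_)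
  ring

/-! ### inner products and restriction -/

theorem irr_self_comp {D L : Type*} [Group D] [Fintype D] [Group L] [Fintype L] (f : L →* D) {χ : D → ℂ}
    (hχ : IsIrrCharacter D χ) : ∃ n : ℕ, 1 ≤ n ∧ classInner (χ ∘ f) (χ ∘ f) = n := by
  obtain ⟨n, hn⟩ := Core.classInner_isNat (Core.isCharacter_comp f (Core.isIrr_isCharacter hχ))
    (Core.isCharacter_comp f (Core.isIrr_isCharacter hχ))
  refine ⟨n, ?_, hn⟩
  by_contra h0
  have h1 : n = 0 := by omega
  rw [h1, Nat.cast_zero] at hn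
  have h2 := congrFun (Core.classInner_self_eq_zero hn) 1
  rw [Function.comp_apply, map_one, Pi.zero_apply] at h2
  exact Core.isIrr_apply_one_ne_zero hχ h2

/-- restriction does not decrease the inner product -/
theorem inner_le_comp {D L : Type*} [Group D] [Fintype D] [Group L] [Fintype L] (f : L →* D)
    {α β : D → ℂ} (hα : IsCharacter D α) (hβ : IsCharacter D β) :
    ‖classInner α β‖ ≤ ‖classInner (α ∘ f) (β ∘ f)‖ := by
  classical
  have : Finite (IrrCharacter D) := Core.finite_irr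
  let _ : Fintype (IrrCharacter D) := Fintype.ofFinite _
  obtain ⟨m, hm⟩ := Core.isCharacter_iff.1 hα
  obtain ⟨n, hn⟩ := Core.isCharacter_iff.1 hβ
  have hc : ∀ χ ψ : IrrCharacter D, ∃ k : ℕ, classInner ((χ : D → ℂ) ∘ f) ((ψ : D → ℂ) ∘ f) = k := fun χ ψ =>
    Core.classInner_isNat (Core.isCharacter_comp f (Core.isIrr_isCharacter χ.2))
      (Core.isCharacter_comp f (Core.isIrr_isCharacter ψ.2))
  choose k hk using hc
  have hk1 : ∀ χ, 1 ≤ k χ χ := by
    intro χ
    obtain ⟨j, hj, h⟩ := irr_self_comp f χ.2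
    rw [hk] at h
    have : k χ χ = j := by exact_mod_cast h
    omega
  have e1 : classInner α β = ((∑ χ : IrrCharacter D, m χ * n χ : ℕ) : ℂ) := by
    conv_lhs => rw [hn]
    rw [Core.classInner_sum_right]
    push_cast
    refine Finset.sum_congr rfl fun χ _ => ?_
    have e : (n χ • (χ : D → ℂ)) = (n χ : ℂ) • (χ : D → ℂ) := by rw [Nat.cast_smul_eq_nsmul]
    have e2 : classInner α χ = m χ := by
      rw [hm]; exact Core.classInner_sum_nsmul_irr m χ
    rw [e, Core.classInner_smul_right, Complex.conj_natCast, e2, mul_comm]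
  have e2 : classInner (α ∘ f) (β ∘ f) =
      ((∑ χ : IrrCharacter D, ∑ ψ : IrrCharacter D, m χ * (n ψ * k χ ψ) : ℕ) : ℂ) := by
    have h1 : α ∘ f = ∑ χ : IrrCharacter D, (m χ : ℂ) • ((χ : D → ℂ) ∘ f) := by
      funext x
      rw [Function.comp_apply, hm, Finset.sum_apply, Finset.sum_apply]
      exact Finset.sum_congr rfl fun χ _ => by rw [Pi.smul_apply, Pi.smul_apply, nsmul_eq_mul, smul_eq_mul]; rfl
    have h2 : β ∘ f = ∑ χ : IrrCharacter D, (n χ : ℂ) • ((χ : D → ℂ) ∘ f) := by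
      funext x
      rw [Function.comp_apply, hn, Finset.sum_apply, Finset.sum_apply]
      exact Finset.sum_congr rfl fun χ _ => by rw [Pi.smul_apply, Pi.smul_apply, nsmul_eq_mul, smul_eq_mul]; rfl
    rw [h1, Core.classInner_sum_left]
    push_cast
    refine Finset.sum_congr rfl fun χ _ => ?_
    rw [Core.classInner_smul_left, h2, Core.classInner_sum_right, Finset.mul_sum]
    refine Finset.sum_congr rfl fun ψ _ => ?_
    rw [Core.classInner_smul_right, Complex.conj_natCast, hk]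
  rw [e1, e2, Complex.norm_natCast, Complex.norm_natCast]
  norm_cast
  refine Finset.sum_le_sum fun χ _ => ?_
  refine le_trans ?_ (Finset.single_le_sum (f := fun ψ => m χ * (n ψ * k χ ψ)) (fun _ _ => Nat.zero_le _)
    (Finset.mem_univ χ))
  exact Nat.mul_le_mul_left _ (Nat.le_mul_of_pos_right _ (hk1 χ))

/-- the Mackey term is bounded by the inner product on a subgroup `L ≤ T ∩ x T x⁻¹` -/
theorem twist_le_of_sub [Finite G] (T : Subgroup G) [Fintype T] {α β : T → ℂ} (hα : IsCharacter T α)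
    (hβ : IsCharacter T β) (x : G) (L : Subgroup G) [Fintype L] (hL : L ≤ T) (hL' : ∀ l ∈ L, x⁻¹ * l * x ∈ T)
    {m : ℝ} (h : ‖∑ l : L, α ⟨l, hL l.2⟩ * conj (β ⟨x⁻¹ * l * x, hL' l l.2⟩)‖ ≤ m * Nat.card L) :
    ‖twist T α β x‖ ≤ m * Nat.card (dsub T x) := by
  classical
  have : Fintype (dsub T x) := Fintype.ofFinite _
  have hα' : IsCharacter (dsub T x) (α ∘ (dsub T x).subtype) := Core.isCharacter_comp _ hα
  have hβ' : IsCharacter (dsub T x) (β ∘ dhom T x) := Core.isCharacter_comp _ hβ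
  let f : L →* dsub T x :=
    { toFun := fun l => ⟨⟨l, hL l.2⟩, (mem_dsub T x _).2 (hL' l l.2)⟩
      map_one' := rfl
      map_mul' := fun _ _ => rfl }
  have h0 := inner_le_comp f hα' hβ'
  have hL0 : (0 : ℝ) < Nat.card L := by exact_mod_cast Nat.card_pos
  have h1 : ‖classInner ((α ∘ (dsub T x).subtype) ∘ f) ((β ∘ dhom T x) ∘ f)‖ ≤ m := by
    rw [Core.classInner_def, norm_mul, norm_inv, Complex.norm_natCast, inv_mul_le_iff₀ hL0, mul_comm]
    exact h
  have h2 := h0.trans h1
  have hD0 : (0 : ℝ) < Nat.card (dsub T x) := by exact_mod_cast Nat.card_pos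
  rw [classInner_apply, norm_mul, norm_inv, Complex.norm_natCast, inv_mul_le_iff₀ hD0, mul_comm] at h2
  refine le_trans (le_of_eq ?_) h2
  congr 1
  rw [twist_def, sum_eq_sum_subgroup (dsub T x)]
  · refine Finset.sum_congr rfl fun d _ => ?_
    rw [ext_apply_mem T β _ ((mem_dsub T x d).1 d.2)]
    rfl
  · intro t ht
    rw [mem_dsub] at ht
    rw [ext_apply_not_mem T β _ ht, map_zero, mul_zero]

/-- the number of constituents is at most the norm -/
theorem card_le_norm [Fintype G] {Θ : G → ℂ} (hΘ : IsCharacter G Θ) (s : Finset (IrrCharacter G))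
    (hs : ∀ χ ∈ s, classInner Θ (χ : G → ℂ) ≠ 0) : (s.card : ℝ) ≤ ‖classInner Θ Θ‖ := by
  classical
  have : Finite (IrrCharacter G) := Core.finite_irr
  let _ : Fintype (IrrCharacter G) := Fintype.ofFinite _
  obtain ⟨m, hm⟩ := Core.isCharacter_iff.1 hΘ
  have e2 : ∀ χ : IrrCharacter G, classInner Θ (χ : G → ℂ) = m χ := by
    intro χ
    rw [hm]; exact Core.classInner_sum_nsmul_irr m χ
  have e1 : classInner Θ Θ = ((∑ χ : IrrCharacter G, m χ * m χ : ℕ) : ℂ) := by
    conv_lhs =>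
      arg 2
      rw [hm]
    rw [Core.classInner_sum_right]
    push_cast
    refine Finset.sum_congr rfl fun χ _ => ?_
    have e : (m χ • (χ : G → ℂ)) = (m χ : ℂ) • (χ : G → ℂ) := by rw [Nat.cast_smul_eq_nsmul]
    rw [e, Core.classInner_smul_right, Complex.conj_natCast, e2]
  rw [e1, Complex.norm_natCast]
  norm_cast
  calc s.card = ∑ χ ∈ s, 1 := by rw [Finset.sum_const, smul_eq_mul, mul_one]
    _ ≤ ∑ χ ∈ s, m χ * m χ := by
        refine Finset.sum_le_sum fun χ hχ => ?_
        have h1 : m χ ≠ 0 := by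
          intro h0
          apply hs χ hχ
          rw [e2, h0, Nat.cast_zero]
        exact Nat.mul_pos (Nat.pos_of_ne_zero h1) (Nat.pos_of_ne_zero h1)
    _ ≤ _ := Finset.sum_le_sum_of_subset (Finset.subset_univ s)

end Cfsg.Agent.H628.Sq.NormLe
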