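import Cfsg.Agent.H628.Sq.NormLe

/-!
# The norm of a Harish-Chandra induced character in rank two

`norm_par` : `P = L R` a subgroup, `τ` an irreducible character of `P` with `R` in the kernel, `f` the multiplicity of
the trivial character of `X` in `τ`; all double cosets of `P` but `P` and `P y₀ P` have representatives `y` with
`y⁻¹ X y ≤ R`, `y₀` normalises `L`. Then `‖Ind τ‖² ≤ 2 + n f²`.
-/

set_option autoImplicit false

open scoped ComplexConjugate
open Cfsg

namespace Cfsg.Agent.H628.Sq.Par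

open Cfsg.Agent.OddOrderCharacters.Clifford Cfsg.Agent.Characters Cfsg.Agent.H53.HC Cfsg.Agent.H628.Sq.NormLe

universe u

variable {G : Type u} [Group G]

section avg

variable {P : Subgroup G} {t : G → ℂ} {R X : Subgroup G}

/-- averaging a right `R`-invariant function -/
theorem sum_left {L : Subgroup G} [Fintype L] {M : Type*} [AddCommMonoid M] (F : G → M)
    (hF : ∀ g r, r ∈ R → F (g * r) = F g) {g : G} (hg : ∃ l ∈ L, ∃ r ∈ R, g = l * r) :
    ∑ l : L, F (l * g) = ∑ l : L, F l := by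
  obtain ⟨l₀, hl₀, r, hr, rfl⟩ := hg
  refine Fintype.sum_equiv (Equiv.mulRight (⟨l₀, hl₀⟩ : L)) _ _ fun l => ?_
  rw [← mul_assoc, hF _ _ hr]
  rfl

/-- the average over `P = L R` of a right `R`-invariant function is its average over `L` -/
theorem sum_P {L : Subgroup G} [Fintype L] [Fintype P] (F : G → ℝ) (hLP : L ≤ P)
    (hF : ∀ g r, r ∈ R → F (g * r) = F g) (hPL : ∀ g ∈ P, ∃ l ∈ L, ∃ r ∈ R, g = l * r) :
    (Nat.card P : ℝ) * ∑ l : L, F l = Nat.card L * ∑ g : P, F g := by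
  have h1 : ∑ g : P, ∑ l : L, F (l * g) = (Nat.card P : ℝ) * ∑ l : L, F l := by
    rw [Finset.sum_congr rfl fun (g : P) _ => sum_left F hF (hPL g g.2), Finset.sum_const, Finset.card_univ,
      Nat.card_eq_fintype_card, nsmul_eq_mul]
  have h2 : ∑ g : P, ∑ l : L, F (l * g) = (Nat.card L : ℝ) * ∑ g : P, F g := by
    rw [Finset.sum_comm]
    have h3 : ∀ l : L, ∑ g : P, F (l * g) = ∑ g : P, F g := fun l =>
      Fintype.sum_equiv (Equiv.mulLeft (⟨l, hLP l.2⟩ : P)) _ _ fun g => rfl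
    rw [Finset.sum_congr rfl fun l _ => h3 l, Finset.sum_const, Finset.card_univ, Nat.card_eq_fintype_card,
      nsmul_eq_mul]
  rw [← h1, h2]

end avg

theorem mul_le_half {a b : ℝ} : a * b ≤ (a ^ 2 + b ^ 2) / 2 := by nlinarith [sq_nonneg (a - b)]

/-- **The norm of the induced character.** -/
theorem norm_par [Fintype G] (P R X L : Subgroup G) [Fintype P] [Fintype X] (hRP : R ≤ P) (hXP : X ≤ P)
    (hLP : L ≤ P) (hPL : ∀ g ∈ P, ∃ l ∈ L, ∃ r ∈ R, g = l * r) {ι : Type*} [Fintype ι] (y : ι → G) (y₀ : G)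
    (hd : ∀ x, x ∉ P → (∃ a ∈ P, ∃ b ∈ P, x = a * y₀ * b) ∨ ∃ i, ∃ a ∈ P, ∃ b ∈ P, x = a * y i * b)
    (h0 : ∀ l, l ∈ L ↔ y₀⁻¹ * l * y₀ ∈ L)
    (M : ι → Subgroup G) (hXM : ∀ i, X ≤ M i) (hM : ∀ i, ∀ m ∈ M i, ∃ x ∈ X, ∃ k ∈ R, m = x * k)
    (hyX : ∀ i, ∀ x ∈ X, (y i)⁻¹ * x * y i ∈ R) (hyM : ∀ i m, m ∈ M i ↔ (y i)⁻¹ * m * y i ∈ M i)
    {τ : P → ℂ} (hτ : IsIrrCharacter P τ) (hR : ∀ g r : P, (r : G) ∈ R → τ (g * r) = τ g)
    {f : ℂ} (hf : ∑ x : X, τ ⟨x, hXP x.2⟩ = Nat.card X * f) :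
    ‖classInner (indFun P τ) (indFun P τ)‖ ≤ 2 + Fintype.card ι * ‖f‖ ^ 2 := by
  classical
  have hcl := Core.isIrr_isClassFunction hτ
  have hch := Core.isIrr_isCharacter hτ
  set t : G → ℂ := extendByZero P τ with ht
  have tP : ∀ g (hg : g ∈ P), t g = τ ⟨g, hg⟩ := fun g hg => ext_apply_mem P τ g hg
  have tr : ∀ g r, r ∈ R → t (g * r) = t g := by
    intro g r hr
    by_cases hg : g ∈ P
    · rw [tP g hg, tP _ (mul_mem hg (hRP hr))]
      exact hR ⟨g, hg⟩ ⟨r, hRP hr⟩ hr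
    · rw [ht, ext_apply_not_mem P τ g hg, ext_apply_not_mem P τ _ fun h => hg ?_]
      have := mul_mem h (inv_mem (hRP hr))
      rwa [mul_inv_cancel_right] at this
  have tl : ∀ g r, r ∈ R → t (r * g) = t g := by
    intro g r hr
    have h1 : t (r * g) = t (g * r) := by
      have := ext_conj hcl (hRP hr) (r * g)
      rw [← ht] at this
      rw [← this]
      congr 1
      group
    rw [h1, tr g r hr]
  -- the norm of `τ`
  have hnP : ∑ g : P, ‖t g‖ ^ 2 = Nat.card P := by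
    have h1 := Core.classInner_irr_self hτ
    rw [classInner_apply, inv_mul_eq_iff_eq_mul₀ card_ne_zero', mul_one] at h1
    have h2 : ((∑ g : P, ‖t g‖ ^ 2 : ℝ) : ℂ) = ((Nat.card P : ℝ) : ℂ) := by
      rw [Complex.ofReal_natCast, ← h1]
      push_cast
      refine Finset.sum_congr rfl fun g _ => ?_
      rw [tP g g.2, Complex.mul_conj, Complex.normSq_eq_norm_sq]
      push_cast
      rfl
    exact_mod_cast h2
  have : Fintype L := Fintype.ofFinite L
  have hnL : ∑ l : L, ‖t l‖ ^ 2 = Nat.card L := by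
    have h1 := sum_P (P := P) (L := L) (R := R) (fun g => ‖t g‖ ^ 2) hLP (fun g r hr => by
      show ‖t (g * r)‖ ^ 2 = _
      rw [tr g r hr]) hPL
    rw [hnP] at h1
    have h2 : (Nat.card P : ℝ) ≠ 0 := by exact_mod_cast Nat.card_pos.ne'
    have h3 : (Nat.card P : ℝ) * ∑ l : L, ‖t l‖ ^ 2 = Nat.card P * Nat.card L := by
      rw [h1, mul_comm]
    exact mul_left_cancel₀ h2 h3
  -- the sums over `X`
  have hX : ∑ x : X, t x = Nat.card X * f := by
    rw [← hf]
    exact Finset.sum_congr rfl fun x _ => tP x (hXP x.2)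
  have hX0 : (Nat.card X : ℂ) ≠ 0 := card_ne_zero'
  have hXm : ∀ i, ∀ m ∈ M i, ∑ x : X, t (x * m) = Nat.card X * f := by
    intro i m hm
    rw [sum_left (L := X) (R := R) t tr (hM i m hm), hX]
  have hMP : ∀ i, M i ≤ P := by
    intro i m hm
    obtain ⟨x, hx, k, hk, rfl⟩ := hM i m hm
    exact mul_mem (hXP hx) (hRP hk)
  -- the sum over `M i`
  have hMt : ∀ i, ∀ [Fintype (M i)], ∑ m : M i, t m = Nat.card (M i) * f := by
    intro i _
    have h1 : ∑ x : X, ∑ m : M i, t (x * m) = Nat.card X * ∑ m : M i, t m := by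
      have h2 : ∀ x : X, ∑ m : M i, t (x * m) = ∑ m : M i, t m := fun x =>
        Fintype.sum_equiv (Equiv.mulLeft (⟨x, hXM i x.2⟩ : M i)) _ _ fun m => rfl
      rw [Finset.sum_congr rfl fun x _ => h2 x, Finset.sum_const, Finset.card_univ, Nat.card_eq_fintype_card,
        nsmul_eq_mul]
    rw [Finset.sum_comm, Finset.sum_congr rfl fun (m : M i) _ => hXm i m m.2, Finset.sum_const, Finset.card_univ,
      nsmul_eq_mul] at h1
    have h3 : (Nat.card X : ℂ) * ∑ m : M i, t m = Nat.card X * (Nat.card (M i) * f) := by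
      rw [← h1, Nat.card_eq_fintype_card (α := M i)]; ring
    exact mul_left_cancel₀ hX0 h3
  have hMs : ∀ i, ∀ [Fintype (M i)], ∑ m : M i, t m * conj (t ((y i)⁻¹ * m * y i)) = Nat.card (M i) * (f * conj f) := by
    intro i _
    have h1 : ∑ x : X, ∑ m : M i, t (x * m) * conj (t ((y i)⁻¹ * m * y i)) =
        Nat.card X * ∑ m : M i, t m * conj (t ((y i)⁻¹ * m * y i)) := by
      have h2 : ∀ x : X, ∑ m : M i, t (x * m) * conj (t ((y i)⁻¹ * m * y i)) =
          ∑ m : M i, t m * conj (t ((y i)⁻¹ * m * y i)) := by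
        intro x
        refine Fintype.sum_equiv (Equiv.mulLeft (⟨x, hXM i x.2⟩ : M i)) _ _ fun m => ?_
        show t (x * m) * conj (t ((y i)⁻¹ * m * y i)) = t (x * m) * conj (t ((y i)⁻¹ * (x * m) * y i))
        congr 2
        have e : (y i)⁻¹ * ((x : G) * m) * y i = ((y i)⁻¹ * x * y i) * ((y i)⁻¹ * m * y i) := by group
        rw [e, tl _ _ (hyX i x x.2)]
      rw [Finset.sum_congr rfl fun x _ => h2 x, Finset.sum_const, Finset.card_univ, Nat.card_eq_fintype_card,
        nsmul_eq_mul]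
    rw [Finset.sum_comm] at h1
    have h3 : ∀ m : M i, ∑ x : X, t (x * m) * conj (t ((y i)⁻¹ * m * y i)) =
        (Nat.card X * f) * conj (t ((y i)⁻¹ * m * y i)) := by
      intro m
      rw [← Finset.sum_mul, hXm i m m.2]
    rw [Finset.sum_congr rfl fun m _ => h3 m, ← Finset.mul_sum, ← map_sum] at h1
    have h4 : ∑ m : M i, t ((y i)⁻¹ * m * y i) = ∑ m : M i, t m := by
      refine Fintype.sum_equiv
        { toFun := fun m : M i => (⟨(y i)⁻¹ * m * y i, (hyM i m).1 m.2⟩ : M i)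
          invFun := fun m : M i => (⟨y i * m * (y i)⁻¹, (hyM i _).2 (by
            have : (y i)⁻¹ * (y i * (m : G) * (y i)⁻¹) * y i = m := by group
            rw [this]; exact m.2)⟩ : M i)
          left_inv := fun m => Subtype.ext (by simp; group)
          right_inv := fun m => Subtype.ext (by simp; group) } _ _ fun m => rfl
    rw [h4, hMt i, map_mul, Complex.conj_natCast] at h1
    have h5 : (Nat.card X : ℂ) * ∑ m : M i, t m * conj (t ((y i)⁻¹ * m * y i)) =
        Nat.card X * (Nat.card (M i) * (f * conj f)) := by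
      rw [← h1]; ring
    exact mul_left_cancel₀ hX0 h5
  -- Mackey
  have key := norm_le P hcl (ι := Option (Option ι)) (fun o => match o with
      | none => 1
      | some none => y₀
      | some (some i) => y i) (fun o => match o with
      | none => 1
      | some none => 1
      | some (some _) => ‖f‖ ^ 2) ?_ ?_
  · refine key.trans (le_of_eq ?_)
    rw [Fintype.sum_option, Fintype.sum_option, Finset.sum_const, Finset.card_univ, nsmul_eq_mul]
    ring
  · intro x
    by_cases hx : x ∈ P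
    · exact ⟨none, x, hx, 1, one_mem _, by simp⟩
    · rcases hd x hx with ⟨a, ha, b, hb, h⟩ | ⟨i, a, ha, b, hb, h⟩
      · exact ⟨some none, a, ha, b, hb, h⟩
      · exact ⟨some (some i), a, ha, b, hb, h⟩
  · rintro (_ | _ | i)
    · refine twist_le_of_sub P hch hch 1 P le_rfl (fun l hl => by simpa using hl) ?_
      have h1 : ∑ l : P, τ ⟨l, (le_refl P) l.2⟩ * conj (τ ⟨1⁻¹ * l * 1, by simp⟩) = Nat.card P := by
        have h1 := Core.classInner_irr_self hτ
        rw [classInner_apply, inv_mul_eq_iff_eq_mul₀ card_ne_zero', mul_one] at h1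
        rw [← h1]
        refine Finset.sum_congr rfl fun l _ => ?_
        congr 3
        exact Subtype.ext (by simp)
      refine (le_of_eq ?_)
      show ‖∑ l : P, τ ⟨l, (le_refl P) l.2⟩ * conj (τ ⟨1⁻¹ * l * 1, by simp⟩)‖ = _
      rw [h1, Complex.norm_natCast, one_mul]
    · refine twist_le_of_sub P hch hch y₀ L hLP (fun l hl => hLP ((h0 l).1 hl)) ?_
      refine (norm_sum_le _ _).trans ?_
      have h2 : ∑ l : L, ‖t (y₀⁻¹ * l * y₀)‖ ^ 2 = ∑ l : L, ‖t l‖ ^ 2 := by
        refine Fintype.sum_equiv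
          { toFun := fun m : L => (⟨y₀⁻¹ * m * y₀, (h0 m).1 m.2⟩ : L)
            invFun := fun m : L => (⟨y₀ * m * y₀⁻¹, (h0 _).2 (by
              have : y₀⁻¹ * (y₀ * (m : G) * y₀⁻¹) * y₀ = m := by group
              rw [this]; exact m.2)⟩ : L)
            left_inv := fun m => Subtype.ext (by simp; group)
            right_inv := fun m => Subtype.ext (by simp; group) } _ _ fun m => rfl
      calc ∑ l : L, ‖τ ⟨l, hLP l.2⟩ * conj (τ ⟨y₀⁻¹ * l * y₀, hLP ((h0 l).1 l.2)⟩)‖ =
          ∑ l : L, ‖t l‖ * ‖t (y₀⁻¹ * l * y₀)‖ := by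
            refine Finset.sum_congr rfl fun l _ => ?_
            rw [norm_mul, RCLike.norm_conj, tP l (hLP l.2), tP _ (hLP ((h0 l).1 l.2))]
        _ ≤ ∑ l : L, (‖t l‖ ^ 2 + ‖t (y₀⁻¹ * l * y₀)‖ ^ 2) / 2 := Finset.sum_le_sum fun l _ => mul_le_half
        _ = 1 * Nat.card L := by
            rw [← Finset.sum_div, Finset.sum_add_distrib, h2, hnL]
            ring
    · have : Fintype (M i) := Fintype.ofFinite _
      refine twist_le_of_sub P hch hch (y i) (M i) (hMP i) (fun l hl => hMP i ((hyM i l).1 hl)) ?_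
      have h1 : ∑ l : M i, τ ⟨l, hMP i l.2⟩ * conj (τ ⟨(y i)⁻¹ * l * y i, hMP i ((hyM i l).1 l.2)⟩) =
          ∑ m : M i, t m * conj (t ((y i)⁻¹ * m * y i)) := by
        refine Finset.sum_congr rfl fun l _ => ?_
        rw [tP l (hMP i l.2), tP _ (hMP i ((hyM i l).1 l.2))]
      rw [h1, hMs i, norm_mul, norm_mul, Complex.norm_natCast, RCLike.norm_conj]
      refine le_of_eq ?_
      ring

end Cfsg.Agent.H628.Sq.Par
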