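import Cfsg.Agent.H732.DegRee
import Cfsg.Agent.H655.StProv

/-!
# S4844, row `²G₂(q)`: `p²` divides an irreducible degree as soon as it divides the order (`p` odd)
-/

set_option autoImplicit false

namespace Cfsg.Agent.H628.Sq.Ree

open Cfsg

universe u

/-- **S4844, row `²G₂(q)`.** -/
theorem sq_ree {S : Type u} [Group S] [Finite S] (h : Lie.IsoRee S) (hs : IsSimpleGroup S) {p : ℕ}
    [hp : Fact p.Prime] (hp2 : p ≠ 2) (hd : p ^ 2 ∣ Nat.card S) : H33.IM (p ^ 2) S := by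
  by_cases hp3 : p = 3
  · -- Steinberg
    subst hp3
    have hL : IsLieTypeChar 3 S := by
      unfold IsLieTypeChar
      tauto
    obtain ⟨χ, hχ, h1⟩ := H167.StChar.hasSt_iff.1 (H655.StProv.hasSt 3 Nat.prime_three hL)
    have Q : Sylow 3 S := default
    refine ⟨⟨χ, hχ⟩, ?_⟩
    have k1 := Cfsg.Agent.Blocks.Basic.irr_one_eq_charDegree hχ
    rw [(h1 Q).1] at k1
    have k2 : Nat.card Q = charDegree χ := by exact_mod_cast k1
    show 3 ^ 2 ∣ charDegree χ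
    rw [← k2]
    exact Q.pow_dvd_card_of_pow_dvd_card hd
  obtain ⟨m, hm, F, hc⟩ := H732.DegRee.facts_of_iso h
  have ar := LieRecognition.ReeClass.arith m
  have h8 := ar.q8
  rw [hc, mul_assoc] at hd
  have hc3 : Nat.Coprime p 3 := (Nat.coprime_primes hp.out Nat.prime_three).2 hp3
  have hc2 : Nat.Coprime p 2 := (Nat.coprime_primes hp.out Nat.prime_two).2 hp2
  have hd2 : p ^ 2 ∣ (3 ^ (2 * m + 1) - 1) * ((3 ^ (2 * m + 1)) ^ 3 + 1) := by
    refine Nat.Coprime.dvd_of_dvd_mul_left ?_ hd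
    exact Nat.Coprime.pow _ _ (Nat.Coprime.pow_right _ hc3)
  by_cases hpt : p ∣ 3 ^ (2 * m + 1) - 1
  · obtain ⟨d, ⟨χ, rfl⟩, h1⟩ := F.cusp
    refine ⟨χ, dvd_trans ?_ h1⟩
    refine Dvd.dvd.mul_left ?_ 3
    have h2 : p ^ 2 ∣ 3 ^ (2 * m + 1) - 1 := by
      refine Nat.Coprime.dvd_of_dvd_mul_right ?_ hd2
      refine Nat.Coprime.pow_left 2 ?_
      rw [Nat.Prime.coprime_iff_not_dvd hp.out]
      intro h3
      obtain ⟨t, ht⟩ : ∃ t, 3 ^ (2 * m + 1) = t + 1 := Nat.exists_eq_succ_of_ne_zero (by positivity)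
      rw [ht] at h3 hpt
      rw [Nat.add_sub_cancel] at hpt
      have h4 : (t + 1) ^ 3 + 1 = t * (t ^ 2 + 3 * t + 3) + 2 := by ring
      rw [h4] at h3
      have h5 := (Nat.dvd_add_right (hpt.mul_right _)).1 h3
      exact hp2 ((Nat.prime_dvd_prime_iff_eq hp.out Nat.prime_two).1 h5)
    have h3 : 3 ^ (2 * m + 1) - 1 = 2 * ((3 ^ (2 * m + 1) - 1) / 2) := by
      clear hd hd2 hc h1 h2 hpt
      generalize 3 ^ (2 * m + 1) = Q at *
      omega
    rw [h3] at h2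
    exact Nat.Coprime.dvd_of_dvd_mul_left (Nat.Coprime.pow_left 2 hc2) h2
  · obtain ⟨χ, h1⟩ := F.ps
    refine ⟨χ, ?_⟩
    rw [h1]
    exact ((Nat.Prime.coprime_iff_not_dvd hp.out).2 hpt).pow_left 2 |>.dvd_of_dvd_mul_left hd2

end Cfsg.Agent.H628.Sq.Ree
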