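import Cfsg.Agent.H732.DegSz

/-!
# S4844, row `Sz(q)`: `p²` divides an irreducible degree as soon as it divides the order (`p` odd)
-/

set_option autoImplicit false

namespace Cfsg.Agent.H628.Sq.Sz

open Cfsg

universe u

/-- the degrees `t a` and `64 k⁴ + 1`, `q = 8 k²`, `t = q - 1`, `a = q + 4 k + 1` -/
theorem degs {S : Type u} [Group S] (h : Lie.IsoSuzuki S) : ∃ k t a : ℕ, (∃ n, k = 2 ^ n) ∧ t + 1 = 8 * k ^ 2 ∧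
    Nat.card S = (8 * k ^ 2) ^ 2 * t * ((8 * k ^ 2) ^ 2 + 1) ∧ t * a ∈ charDegrees S ∧
    (8 * k ^ 2) ^ 2 + 1 ∈ charDegrees S := by
  obtain ⟨F, _, _, m, hm, hF, he⟩ := h
  obtain ⟨n, rfl⟩ : ∃ n, m = n + 1 := ⟨m - 1, by omega⟩
  obtain ⟨k, hk⟩ : ∃ k, k = 2 ^ n := ⟨_, rfl⟩
  have hk1 : 1 ≤ k := hk ▸ Nat.one_le_two_pow
  have hqk : 2 ^ (2 * (n + 1) + 1) = 8 * k ^ 2 := by
    rw [hk, ← pow_mul, show (8 : ℕ) = 2 ^ 3 by norm_num, ← pow_add]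
    congr 1
    ring
  have hk2 : 1 ≤ k ^ 2 := Nat.one_le_pow _ _ hk1
  have hkk : k ≤ k ^ 2 := by nlinarith
  obtain ⟨t, ht⟩ : ∃ t, t + 1 = 8 * k ^ 2 := ⟨8 * k ^ 2 - 1, by omega⟩
  obtain ⟨a, ha⟩ : ∃ a, a = 8 * k ^ 2 + 4 * k + 1 := ⟨_, rfl⟩
  obtain ⟨b, hb⟩ : ∃ b, b + 4 * k = 8 * k ^ 2 + 1 := ⟨8 * k ^ 2 + 1 - 4 * k, by omega⟩
  have hdeg := H678.SuzGraph.mem_charDegrees hm hF he k t a b (by rw [hk]; rfl) ht ha hb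
  have hc : Nat.card S = (8 * k ^ 2) ^ 2 * t * ((8 * k ^ 2) ^ 2 + 1) := by
    obtain ⟨e⟩ := he
    rw [Nat.card_congr e.toEquiv, H438.SzMax.card_sz hF, hqk]
    congr 2
    omega
  refine ⟨k, t, a, ⟨n, hk⟩, ht, hc, (hdeg _).2 (by tauto), (hdeg _).2 ?_⟩
  right; right; left
  ring

/-- **S4844, row `Sz(q)`.** -/
theorem sq_suzuki {S : Type u} [Group S] [Finite S] (h : Lie.IsoSuzuki S) (_hs : IsSimpleGroup S) {p : ℕ}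
    [hp : Fact p.Prime] (hp2 : p ≠ 2) (hd : p ^ 2 ∣ Nat.card S) : H33.IM (p ^ 2) S := by
  obtain ⟨k, t, a, ⟨n, hk⟩, ht, hc, ⟨χ₁, h₁⟩, ⟨χ₂, h₂⟩⟩ := degs h
  have hc2 : Nat.Coprime p 2 := (Nat.coprime_primes hp.out Nat.prime_two).2 hp2
  have hcq : Nat.Coprime (p ^ 2) ((8 * k ^ 2) ^ 2) := by
    have h1 : (8 * k ^ 2) ^ 2 = 2 ^ (6 + 4 * n) := by
      rw [hk, show (8 : ℕ) = 2 ^ 3 by norm_num, ← pow_mul, ← pow_add, ← pow_mul]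
      congr 1
      ring
    rw [h1]
    exact Nat.Coprime.pow _ _ hc2
  rw [hc, mul_assoc] at hd
  have hd2 := hcq.dvd_of_dvd_mul_left hd
  by_cases hpt : p ∣ t
  · refine ⟨χ₁, ?_⟩
    rw [h₁]
    refine Dvd.dvd.mul_right ?_ a
    refine Nat.Coprime.dvd_of_dvd_mul_right ?_ hd2
    refine Nat.Coprime.pow_left 2 ?_
    rw [Nat.Prime.coprime_iff_not_dvd hp.out, ← ht]
    intro h3
    have h4 : (t + 1) ^ 2 + 1 = t * (t + 2) + 2 := by ring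
    rw [h4] at h3
    have h5 := (Nat.dvd_add_right (hpt.mul_right (t + 2))).1 h3
    exact hp2 ((Nat.prime_dvd_prime_iff_eq hp.out Nat.prime_two).1 h5)
  · refine ⟨χ₂, ?_⟩
    rw [h₂]
    exact ((Nat.Prime.coprime_iff_not_dvd hp.out).2 hpt).pow_left 2 |>.dvd_of_dvd_mul_left hd2

end Cfsg.Agent.H628.Sq.Sz
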