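import Cfsg.Agent.H42.Deg.F4Two

/-!
# S4844, row `²F₄(q)`, `q > 2`: `p²` divides an irreducible degree as soon as it divides the order (`p` odd)

`sq_tf_of` : the row, except for the primes `p` with `p ∣ q - 1`, `p² ∤ q - 1`, for which the statement is a hypothesis.
-/

set_option autoImplicit false

namespace Cfsg.Agent.H628.Sq.TwF

open Cfsg Cfsg.Agent.H42.Deg Cfsg.Agent.H42.Deg.F4Two

universe u

section arith

variable {k p : ℕ}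

theorem eq_two_of {x y : ℕ} (hp : p.Prime) (h1 : p ∣ x) (h2 : p ∣ x * y + 2) : p = 2 :=
  (Nat.prime_dvd_prime_iff_eq hp Nat.prime_two).1 ((Nat.dvd_add_right (h1.mul_right y)).1 h2)

theorem od_eq : od (k + 1) = (k + 1) ^ 12 * (k ^ 2 * ((k + 2) * ((k + 1) ^ 2 + 1) * ((k + 1) ^ 3 + 1) * ((k + 1) ^ 6 + 1))) := by
  unfold od
  rw [eq4, Nat.add_sub_cancel]
  ring

/-- `p ∣ q - 1` : the `p`-part of the order is the one of `(q-1)²` -/
theorem not_dvd_rest (hp : p.Prime) (hp2 : p ≠ 2) (hk : p ∣ k) :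
    ¬ p ∣ (k + 2) * ((k + 1) ^ 2 + 1) * ((k + 1) ^ 3 + 1) * ((k + 1) ^ 6 + 1) := by
  intro h
  rcases hp.dvd_mul.1 h with h | h
  · rcases hp.dvd_mul.1 h with h | h
    · rcases hp.dvd_mul.1 h with h | h
      · exact hp2 (eq_two_of (y := 1) hp hk (by rwa [mul_one]))
      · exact hp2 (eq_two_of (y := k + 2) hp hk (by
          rw [show (k + 1) ^ 2 + 1 = k * (k + 2) + 2 by ring] at h; exact h))
    · exact hp2 (eq_two_of (y := k ^ 2 + 3 * k + 3) hp hk (by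
          rw [show (k + 1) ^ 3 + 1 = k * (k ^ 2 + 3 * k + 3) + 2 by ring] at h; exact h))
  · exact hp2 (eq_two_of (y := k ^ 5 + 6 * k ^ 4 + 15 * k ^ 3 + 20 * k ^ 2 + 15 * k + 6) hp hk (by
          rw [show (k + 1) ^ 6 + 1 = k * (k ^ 5 + 6 * k ^ 4 + 15 * k ^ 3 + 20 * k ^ 2 + 15 * k + 6) + 2 by ring] at h
          exact h))

variable {n a b i j : ℕ} (hq : k + 1 = 2 ^ n) (hk : 0 < k)
  (hi : (k + 1) * (k + 1 - 1) * (k + 1 + 1) * ((k + 1 - 1) * 2 ^ a) * i = od (k + 1))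
  (hj : ((k + 1) * (k + 1)) * (k + 1 - 1) * ((k + 1) * (k + 1) + 1) * ((k + 1 - 1) * 2 ^ b) * j = od (k + 1))

include hq hk hi hj in
theorem sq_dvd (hp : p.Prime) (hp2 : p ≠ 2) (hd : p ^ 2 ∣ od (k + 1)) (hpk : ¬ p ∣ k) :
    p ^ 2 ∣ i * (k + 1 - 1) ∨ p ^ 2 ∣ j * (k + 1 - 1) := by
  have hpc : ∀ {x : ℕ}, ¬ p ∣ x → Nat.Coprime (p ^ 2) x := fun h =>
    ((Nat.Prime.coprime_iff_not_dvd hp).2 h).pow_left 2
  have hq' : Nat.Coprime (p ^ 2) ((k + 1) ^ 12) := by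
    rw [hq, ← pow_mul]
    exact Nat.Coprime.pow _ _ ((Nat.coprime_primes hp Nat.prime_two).2 hp2)
  rw [od_eq] at hd
  have h1 := (hpc (fun h => hpk (hp.dvd_of_dvd_pow h))).dvd_of_dvd_mul_left (hq'.dvd_of_dvd_mul_left hd)
  -- `q + 1`
  by_cases hA : p ∣ k + 2
  · -- `(q+1)(q³+1)` divides `j`
    right
    refine Dvd.dvd.mul_right (dvd_trans ?_ (dvd_j hq hk hj)) _
    have e3 : (k + 1) ^ 3 + 1 = (k + 2) * (k * (k + 1) + 1) := by ring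
    rw [pow_two]
    refine Dvd.dvd.mul_right (mul_dvd_mul ?_ hA) _
    rw [e3]
    exact hA.mul_right _
  by_cases hB : p ∣ (k + 1) ^ 2 + 1
  · -- `(q²+1)(q⁶+1)` divides `i`
    left
    refine Dvd.dvd.mul_right (dvd_trans ?_ (dvd_i hq hk hi)) _
    have e6 : (k + 1) ^ 6 + 1 = ((k + 1) ^ 2 + 1) * ((k + 1) ^ 2 * (k * (k + 2)) + 1) := by ring
    rw [pow_two]
    refine mul_dvd_mul (hB.mul_left _) ?_
    rw [e6]
    exact hB.mul_right _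
  · right
    refine Dvd.dvd.mul_right (dvd_trans ?_ (dvd_j hq hk hj)) _
    have h2 : p ^ 2 ∣ ((k + 2) * ((k + 1) ^ 2 + 1)) * (((k + 1) ^ 3 + 1) * ((k + 1) ^ 6 + 1)) := by
      refine dvd_trans h1 (dvd_of_eq ?_)
      ring
    have h3 := (hpc (fun h => (hp.dvd_mul.1 h).elim hA hB)).dvd_of_dvd_mul_left h2
    refine dvd_trans h3 ⟨k + 2, ?_⟩
    ring

end arith

/-- **S4844, row `²F₄(q)`**, from the primes `p` with `p ∣ q - 1`, `p² ∤ q - 1`. -/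
theorem sq_tf_of {S : Type u} [Group S] [Finite S] (h : Lie.Iso2F4 S) {p : ℕ} [hp : Fact p.Prime] (hp2 : p ≠ 2)
    (hd : p ^ 2 ∣ Nat.card S)
    (H : ∀ n k : ℕ, k + 1 = 2 ^ n → Nat.card S = od (k + 1) → p ∣ k → ¬ p ^ 2 ∣ k → H33.IM (p ^ 2) S) :
    H33.IM (p ^ 2) S := by
  obtain ⟨n, k, a, b, i, j, χ₁, χ₂, χ₃, hq, hk, hc, hi, hj, d₁, d₂, d₃⟩ := exists_three h
  by_cases hpk : p ∣ k
  · by_cases hpk2 : p ^ 2 ∣ k
    · refine ⟨χ₁, dvd_trans ?_ d₁⟩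
      rw [Nat.add_sub_cancel]
      exact hpk2.mul_left i
    · exact H n k hq hc hpk hpk2
  · rw [hc] at hd
    rcases sq_dvd hq hk hi hj hp.out hp2 hd hpk with h1 | h1
    · exact ⟨χ₁, h1.trans d₁⟩
    · exact ⟨χ₂, h1.trans d₂⟩

end Cfsg.Agent.H628.Sq.TwF
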