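import Cfsg.Agent.H628.Sq.TwFNorm

/-!
# `²F₄(q)`: nine irreducible characters that agree on the parabolic subgroups are cuspidal

`cuspidal`.
-/

set_option autoImplicit false
set_option linter.unusedSectionVars false

open scoped ComplexConjugate

namespace Cfsg.Agent.H628.Sq.TwFHC

open Cfsg Cfsg.Agent.SplitTwo Cfsg.Agent.SplitTwo.ZS Cfsg.Agent.TitsThree.RankTwoZ Cfsg.Agent.SplitTwo.RootSysZ
open Cfsg.Agent.KFacts.TwF4 Cfsg.Agent.KFacts.TwF4.Arc Cfsg.Agent.KFacts.TwF4.SylU Cfsg.Agent.KFacts.TwF4.TorEx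
open Cfsg.Agent.KFacts.TwF4.Full Cfsg.Agent.KFacts.TwF4.Irr
open Cfsg.Agent.H42.Deg.F4 Cfsg.Agent.H628.Sq.Par Cfsg.Agent.H628.Sq.Lin Cfsg.Agent.H628.Sq.TwFNorm
open Cfsg.Agent.H628.Sq.NormLe Cfsg.Agent.Characters Cfsg.Agent.OddOrderCharacters.Clifford
open Cfsg.Agent.H732.RankOneGG
open Cfsg.Agent.H42.Deg.F4B (PB J_le_PB T_le_PB)

universe u

/-! ### generalities -/

section gen

variable {G : Type u} [Group G]

/-- many irreducible characters with the same restriction to `P` -/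
theorem card_le_ind [Fintype G] (P : Subgroup G) [Fintype P] {ψ : P → ℂ} (hψ : IsCharacter P ψ)
    (s : Finset (IrrCharacter G)) (h : ∀ χ ∈ s, ∀ χ' ∈ s, ∀ g ∈ P, (χ : G → ℂ) g = (χ' : G → ℂ) g)
    {χ₀ : IrrCharacter G} (h0 : χ₀ ∈ s) (hne : classInner (fun g : P => (χ₀ : G → ℂ) g) ψ ≠ 0) :
    (s.card : ℝ) ≤ ‖classInner (indFun P ψ) (indFun P ψ)‖ := by
  refine card_le_norm (Cfsg.Agent.S0148.result P _ hψ) s fun χ hχ => ?_
  rw [classInner_indFun P _ _ (Core.isIrr_isClassFunction χ.2)]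
  intro h1
  apply hne
  rw [← Core.classInner_conj_symm, map_eq_zero]
  rw [← h1]
  congr 1
  funext g
  exact h χ₀ h0 χ hχ g g.2

theorem sum_hom_nat {P K : Type*} [Group P] [Group K] [Fintype K] {Θ : P → ℂ} (hΘ : IsCharacter P Θ) (f : K →* P) :
    ∃ n : ℕ, ∑ k : K, Θ (f k) = Nat.card K * n := by
  obtain ⟨n, hn⟩ := Core.classInner_isNat (Core.isCharacter_comp f hΘ) (Core.isCharacter_one (G := K))
  refine ⟨n, ?_⟩
  rw [classInner_apply, inv_mul_eq_iff_eq_mul₀ card_ne_zero'] at hn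
  rw [← hn]
  refine Finset.sum_congr rfl fun k _ => ?_
  simp

/-- constituents have fewer fixed vectors -/
theorem sum_eq_zero_of_constituent {P K : Type*} [Group P] [Fintype P] [Group K] [Fintype K] {Θ τ : P → ℂ}
    (hΘ : IsCharacter P Θ) (hτ : IsIrrCharacter P τ) (hc : classInner Θ τ ≠ 0) (f : K →* P)
    (h : ∑ k : K, Θ (f k) = 0) : ∑ k : K, τ (f k) = 0 := by
  obtain ⟨a, ha⟩ := sum_hom_nat (Core.isIrr_isCharacter hτ) f
  obtain ⟨b, hb⟩ := sum_hom_nat (isCharacter_sub_irr hΘ hτ hc) f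
  have h1 : ∑ k : K, Θ (f k) = ∑ k : K, τ (f k) + ∑ k : K, (Θ - τ) (f k) := by
    rw [← Finset.sum_add_distrib]
    refine Finset.sum_congr rfl fun k _ => ?_
    rw [Pi.sub_apply]
    ring
  rw [h, ha, hb, ← mul_add] at h1
  have h2 : (Nat.card K : ℂ) ≠ 0 := card_ne_zero'
  have h3 := (mul_eq_zero.1 h1.symm).resolve_left h2
  have h4 : a + b = 0 := by exact_mod_cast h3
  have h5 : a = 0 := by omega
  rw [ha, h5, Nat.cast_zero, mul_zero]

theorem inner_one {M : Type*} [Group M] [Fintype M] (φ : M → ℂ) : classInner φ (1 : M → ℂ) =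
    (Nat.card M : ℂ)⁻¹ * ∑ x : M, φ x := by
  rw [classInner_apply]
  congr 1
  exact Finset.sum_congr rfl fun x _ => by simp

/-- fixed vectors of a larger group are fixed by the smaller group -/
theorem sum_ne_zero_of_hom {P H K : Type*} [Group P] [Group H] [Fintype H] [Group K] [Fintype K] {Θ : P → ℂ}
    (hΘ : IsCharacter P Θ) (f : H →* P) (j : K →* H) (h : ∑ k : H, Θ (f k) ≠ 0) : ∑ k : K, Θ (f (j k)) ≠ 0 := by
  intro h0
  apply h
  have h1 := inner_le_comp j (Core.isCharacter_comp f hΘ) (Core.isCharacter_one (G := H))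
  have h3 : classInner ((Θ ∘ f) ∘ j) ((1 : H → ℂ) ∘ j) = 0 := by
    have e : (1 : H → ℂ) ∘ j = (1 : K → ℂ) := rfl
    rw [e, inner_one]
    have : ∑ x : K, ((Θ ∘ f) ∘ j) x = 0 := h0
    rw [this, mul_zero]
  rw [h3, norm_zero] at h1
  have h4 := norm_eq_zero.1 (le_antisymm h1 (norm_nonneg _))
  rw [inner_one] at h4
  exact (mul_eq_zero.1 h4).resolve_left (inv_ne_zero card_ne_zero')

/-- the average over `U = X R` of an `R`-invariant function is its average over `X` -/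
theorem sum_U {U X R : Subgroup G} [Fintype U] [Fintype X] (F : G → ℂ) (hX : X ≤ U)
    (hF : ∀ g r, r ∈ R → F (g * r) = F g) (hU : ∀ g ∈ U, ∃ l ∈ X, ∃ r ∈ R, g = l * r) :
    (Nat.card U : ℂ) * ∑ l : X, F l = Nat.card X * ∑ g : U, F g := by
  have h1 : ∑ g : U, ∑ l : X, F (l * g) = (Nat.card U : ℂ) * ∑ l : X, F l := by
    rw [Finset.sum_congr rfl fun (g : U) _ => sum_left F hF (hU g g.2), Finset.sum_const, Finset.card_univ,
      Nat.card_eq_fintype_card, nsmul_eq_mul]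
  have h2 : ∑ g : U, ∑ l : X, F (l * g) = (Nat.card X : ℂ) * ∑ g : U, F g := by
    rw [Finset.sum_comm]
    have h3 : ∀ l : X, ∑ g : U, F (l * g) = ∑ g : U, F g := fun l =>
      Fintype.sum_equiv (Equiv.mulLeft (⟨l, hX l.2⟩ : U)) _ _ fun g => rfl
    rw [Finset.sum_congr rfl fun l _ => h3 l, Finset.sum_const, Finset.card_univ, Nat.card_eq_fintype_card,
      nsmul_eq_mul]
  rw [← h1, h2]

/-- **irreducible restriction**: `P = L N`, `N` in the kernel -/
theorem irr_restrict [Finite G] {P L N : Subgroup G} (hLP : L ≤ P) (hNP : N ≤ P)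
    (hPL : ∀ g ∈ P, ∃ l ∈ L, ∃ r ∈ N, g = l * r) {τ : P → ℂ} (hτ : IsIrrCharacter P τ)
    (hN : ∀ g r : P, (r : G) ∈ N → τ (g * r) = τ g) : IsIrrCharacter L fun l : L => τ ⟨l, hLP l.2⟩ := by
  classical
  have := Fintype.ofFinite P
  have := Fintype.ofFinite L
  have hch : IsCharacter L fun l : L => τ ⟨l, hLP l.2⟩ :=
    Core.isCharacter_comp (Subgroup.inclusion hLP) (Core.isIrr_isCharacter hτ)
  set t : G → ℂ := extendByZero P τ with ht
  have tP : ∀ g (hg : g ∈ P), t g = τ ⟨g, hg⟩ := fun g hg => ext_apply_mem P τ g hg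
  have tr : ∀ g r, r ∈ N → t (g * r) = t g := by
    intro g r hr
    by_cases hg : g ∈ P
    · rw [tP g hg, tP _ (mul_mem hg (hNP hr))]
      exact hN ⟨g, hg⟩ ⟨r, hNP hr⟩ hr
    · rw [ht, ext_apply_not_mem P τ g hg, ext_apply_not_mem P τ _ fun h => hg ?_]
      have := mul_mem h (inv_mem (hNP hr))
      rwa [mul_inv_cancel_right] at this
  refine Core.isIrr_of_classInner_self hch ?_
  have h1 := sum_U (U := P) (X := L) (R := N) (fun g => t g * conj (t g)) hLP (fun g r hr => by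
    show t (g * r) * conj (t (g * r)) = _
    rw [tr g r hr]) hPL
  have h2 : ∑ g : P, t g * conj (t g) = Nat.card P := by
    have h1 := Core.classInner_irr_self hτ
    rw [classInner_apply, inv_mul_eq_iff_eq_mul₀ card_ne_zero', mul_one] at h1
    rw [← h1]
    exact Finset.sum_congr rfl fun g _ => by rw [tP g g.2]
  rw [h2, mul_comm] at h1
  have h3 : ∑ l : L, t l * conj (t l) = Nat.card L := mul_right_cancel₀ card_ne_zero' h1
  rw [classInner_apply, inv_mul_eq_iff_eq_mul₀ card_ne_zero', mul_one, ← h3]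
  exact Finset.sum_congr rfl fun l _ => by rw [tP l (hLP l.2)]

/-- a character with fixed vectors of a Borel subgroup of a group of rank one has at most one
dimension of fixed vectors under the unipotent radical -/
theorem mu_le_one {H U : Subgroup G} {w : G} [Fintype G] [Fintype H] [Fintype U]
    (D : Cfsg.Agent.LieRecognition.RankOneAbstract.Data H U w) (χ : IrrCharacter G) (h : mu H 1 χ ≠ 0) :
    mu U 1 χ ≤ 1 := by
  classical
  have : Finite (IrrCharacter G) := Core.finite_irr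
  let _ : Fintype (IrrCharacter G) := Fintype.ofFinite _
  have h1 := sum_mul D (1 : H →* ℂˣ) (fun u _ => rfl) (1 : U →* ℂˣ)
  rw [if_pos rfl] at h1
  have hone : ∀ (K : Subgroup G) [Fintype K], mu K 1 (⟨1, Core.isIrr_one⟩ : IrrCharacter G) = 1 := by
    intro K _
    have h2 := mu_spec K 1 (⟨1, Core.isIrr_one⟩ : IrrCharacter G)
    have h3 : classInner (fun u : K => (((1 : K →* ℂˣ) u : ℂˣ) : ℂ)) (fun u : K => (1 : G → ℂ) u) = 1 :=
      Core.classInner_irr_self (G := K) Core.isIrr_one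
    have h4 : (mu K 1 (⟨1, Core.isIrr_one⟩ : IrrCharacter G) : ℂ) = 1 := by
      rw [← h2]; exact h3
    exact_mod_cast h4
  by_cases hχ : χ = ⟨1, Core.isIrr_one⟩
  · rw [hχ, hone U]
  · have h2 : ∑ ψ ∈ ({⟨1, Core.isIrr_one⟩, χ} : Finset (IrrCharacter G)), mu H 1 ψ * mu U 1 ψ ≤ 1 + 1 := by
      rw [← h1]
      exact Finset.sum_le_sum_of_subset (Finset.subset_univ _)
    rw [Finset.sum_pair (Ne.symm hχ), hone H, hone U, mul_one] at h2
    have h3 : mu H 1 χ * mu U 1 χ ≤ 1 := by omega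
    have h4 : 1 ≤ mu H 1 χ := Nat.pos_of_ne_zero h
    calc mu U 1 χ = 1 * mu U 1 χ := (one_mul _).symm
      _ ≤ mu H 1 χ * mu U 1 χ := Nat.mul_le_mul_right _ h4
      _ ≤ 1 := h3

end gen

/-! ### `²F₄(q)` -/

variable {F : Type*} [Field F] [Finite F] {σ : F →+* F} {G : Type u} [Group G] (S : Full σ G)

theorem BB_comm {h k : G} (hh : h ∈ BB S) (hk : k ∈ BB S) : ∃ u ∈ J S.XZ 1 8, h * k = k * h * u := by
  have hn : ∀ t ∈ S.T, ∀ u ∈ J S.XZ 1 8, t * u * t⁻¹ ∈ J S.XZ 1 8 := fun t ht u hu => S.T_conj_J ht hu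
  obtain ⟨t, ht, u, hu, rfl⟩ := mem_sup_of_norm (A := S.T) (B := J S.XZ 1 8) hn hh
  obtain ⟨t', ht', u', hu', rfl⟩ := mem_sup_of_norm (A := S.T) (B := J S.XZ 1 8) hn hk
  have hn' : ∀ t ∈ S.T, ∀ u ∈ J S.XZ 1 8, t⁻¹ * u * t ∈ J S.XZ 1 8 := fun t ht u hu => by
    have := hn t⁻¹ (inv_mem ht) u hu
    rwa [inv_inv] at this
  have hc := T_comm S ht ht'
  refine ⟨(t' * u' * (t * u))⁻¹ * (t * u * (t' * u')), ?_, by group⟩
  have e : (t' * u' * (t * u))⁻¹ * (t * u * (t' * u')) =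
      u⁻¹ * (t⁻¹ * u'⁻¹ * t) * ((t'⁻¹ * (t⁻¹ * t * u * t⁻¹ * t) * t')) * u' := by
    have h1 : t'⁻¹ * t = t * t'⁻¹ := by
      have := T_comm S (inv_mem ht') ht
      exact this
    have h2 : t⁻¹ * t'⁻¹ * t = t'⁻¹ := by rw [mul_assoc, h1]; group
    calc (t' * u' * (t * u))⁻¹ * (t * u * (t' * u')) = u⁻¹ * (t⁻¹ * u'⁻¹ * t) * (t⁻¹ * t'⁻¹ * t) * u * t' * u' := by
          group
      _ = _ := by rw [h2]; group
  rw [e]
  refine mul_mem (mul_mem (mul_mem (inv_mem hu) (hn' t ht _ (inv_mem hu'))) (hn' t' ht' _ ?_)) hu'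
  rw [show t⁻¹ * t * u * t⁻¹ * t = u by group]
  exact hu

theorem BB_norm {h u : G} (hh : h ∈ BB S) (hu : u ∈ J S.XZ 1 8) : h * u * h⁻¹ ∈ J S.XZ 1 8 := by
  have hn : ∀ t ∈ S.T, ∀ u ∈ J S.XZ 1 8, t * u * t⁻¹ ∈ J S.XZ 1 8 := fun t ht u hu => S.T_conj_J ht hu
  obtain ⟨t, ht, v, hv, rfl⟩ := mem_sup_of_norm (A := S.T) (B := J S.XZ 1 8) hn hh
  have e : t * v * u * (t * v)⁻¹ = t * (v * u * v⁻¹) * t⁻¹ := by group
  rw [e]
  exact hn t ht _ (mul_mem (mul_mem hv hu) (inv_mem hv))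

theorem BB_le_PP : BB S ≤ PP S := sup_le (T_le_PP S) ((J_mono le_rfl (by norm_num)).trans (J_le_PP S))

theorem BM_le_BB : BM S ≤ BB S := by
  refine sup_le ((TM_le_T S).trans (T_le_BB S)) ?_
  exact (X_le_J le_rfl (by norm_num)).trans (J_le_BB S)

theorem N1_le_BB : N1 S ≤ BB S :=
  sup_le ((ZJ_le_T S).trans (T_le_BB S)) ((J_mono (by norm_num) le_rfl).trans (J_le_BB S))

theorem PP_norm {h u : G} (hh : h ∈ PP S) (hu : u ∈ J S.XZ 2 8) : h * u * h⁻¹ ∈ J S.XZ 2 8 := by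
  have Z := S.zsys8
  have h1 : PP S ≤ Subgroup.normalizer (J S.XZ 2 8 : Set G) := by
    refine sup_le (fun t ht => ?_) ?_
    · rw [Subgroup.mem_normalizer_iff]
      intro x
      refine ⟨fun hx => S.T_conj_J ht hx, fun hx => ?_⟩
      have := S.T_conj_J (inv_mem ht) hx
      rwa [show t⁻¹ * (t * x * t⁻¹) * t⁻¹⁻¹ = x by group] at this
    · have := Z.le_normalizer (a := 2) (b := 8) (by norm_num)
      exact this
  exact (Subgroup.mem_normalizer_iff.1 (h1 hh) u).1 hu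

theorem PB_norm {h u : G} (hh : h ∈ PB S) (hu : u ∈ J S.XZ 1 7) : h * u * h⁻¹ ∈ J S.XZ 1 7 := by
  have Z := S.zsys8
  have h1 : PB S ≤ Subgroup.normalizer (J S.XZ 1 7 : Set G) := by
    refine sup_le (fun t ht => ?_) ?_
    · rw [Subgroup.mem_normalizer_iff]
      intro x
      refine ⟨fun hx => S.T_conj_J ht hx, fun hx => ?_⟩
      have := S.T_conj_J (inv_mem ht) hx
      rwa [show t⁻¹ * (t * x * t⁻¹) * t⁻¹⁻¹ = x by group] at this
    · have := Z.le_normalizer (a := 1) (b := 7) (by norm_num)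
      exact this
  exact (Subgroup.mem_normalizer_iff.1 (h1 hh) u).1 hu

/-- an irreducible character of `PP` with fixed vectors under `BB` induces to a character of norm `≤ 5` -/
theorem norm_of_BB [Fintype G] [Fintype (PP S)] [Fintype (BB S)] {τ : PP S → ℂ} (hτ : IsIrrCharacter (PP S) τ)
    (h : ∑ b : BB S, τ ⟨b, BB_le_PP S b.2⟩ ≠ 0) : ‖classInner (indFun (PP S) τ) (indFun (PP S) τ)‖ ≤ 5 := by
  classical
  have hch := Core.isIrr_isCharacter hτ
  let fB : BB S →* PP S := Subgroup.inclusion (BB_le_PP S)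
  have hsub : ∀ (K : Subgroup G) (hK : K ≤ BB S) [Fintype K], ∑ k : K, τ ⟨k, BB_le_PP S (hK k.2)⟩ ≠ 0 := by
    intro K hK _
    exact sum_ne_zero_of_hom hch fB (Subgroup.inclusion hK) h
  -- `N1` is in the kernel
  have := Fintype.ofFinite (N1 S)
  have hN : ∀ g r : PP S, (r : G) ∈ N1 S → τ (g * r) = τ g := by
    intro g r hr
    have := Fintype.ofFinite ((N1 S).subgroupOf (PP S))
    refine kernel_of_sum_ne_zero hτ ((N1 S).subgroupOf (PP S)) (fun g k hk => ?_) ?_ g (Subgroup.mem_subgroupOf.2 hr)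
    · rw [Subgroup.mem_subgroupOf] at hk ⊢
      exact N1_norm S g.2 hk
    · have h1 := hsub (N1 S) (N1_le_BB S)
      intro h2
      apply h1
      rw [← h2]
      exact Fintype.sum_equiv (Subgroup.subgroupOfEquivOfLe (N1_le_PP S)).toEquiv.symm _ _ fun k => rfl
  have hR : ∀ g r : PP S, (r : G) ∈ J S.XZ 2 8 → τ (g * r) = τ g := fun g r hr => hN g r (Subgroup.mem_sup_right hr)
  -- the restriction to `LO`
  have hirr := irr_restrict (LO_le_PP S) (N1_le_PP S) (fun g hg => PP_form S hg) hτ hN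
  set χ : IrrCharacter S.LO := ⟨_, hirr⟩ with hχ
  have := Fintype.ofFinite S.LO
  have := Fintype.ofFinite (HH S)
  have := Fintype.ofFinite (UU S)
  have hX : S.XZ 1 ≤ S.LO := le_sup_left
  have hXP : S.XZ 1 ≤ PP S := hX.trans (LO_le_PP S)
  have := Fintype.ofFinite (S.XZ 1)
  have := Fintype.ofFinite (BM S)
  -- sums of the trivial character
  have hsum : ∀ (K : Subgroup S.LO) [Fintype K], ((mu K 1 χ : ℕ) : ℂ) * Nat.card K =
      conj (∑ k : K, τ ⟨((k : S.LO) : G), LO_le_PP S (k : S.LO).2⟩) := by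
    intro K _
    rw [← mu_spec K 1 χ, classInner_apply, mul_comm, mul_inv_cancel_left₀ card_ne_zero', map_sum]
    refine Finset.sum_congr rfl fun k _ => ?_
    rw [MonoidHom.one_apply, Units.val_one, one_mul]
  have hH : mu (HH S) 1 χ ≠ 0 := by
    intro h0
    have h1 := hsum (HH S)
    rw [h0, Nat.cast_zero, zero_mul] at h1
    have h2 := (map_eq_zero _).1 h1.symm
    apply hsub (BM S) (BM_le_BB S)
    rw [← h2]
    let e : ↥(BM S) ≃ ↥(HH S) := (Subgroup.subgroupOfEquivOfLe (BM_le_LO S)).symm.toEquiv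
    exact Fintype.sum_equiv e (fun k : BM S => τ ⟨k, BB_le_PP S (BM_le_BB S k.2)⟩)
      (fun k : HH S => τ ⟨((k : S.LO) : G), LO_le_PP S (k : S.LO).2⟩) fun k => rfl
  have hmu := mu_le_one (data S) χ hH
  set n := mu (UU S) 1 χ with hn
  have hf : ∑ x : S.XZ 1, τ ⟨x, hXP x.2⟩ = Nat.card (S.XZ 1) * (n : ℂ) := by
    have h1 := hsum (UU S)
    have h2 : ∑ x : S.XZ 1, τ ⟨x, hXP x.2⟩ = ∑ k : UU S, τ ⟨((k : S.LO) : G), LO_le_PP S (k : S.LO).2⟩ := by
      let e : ↥(S.XZ 1) ≃ ↥(UU S) := (Subgroup.subgroupOfEquivOfLe hX).symm.toEquiv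
      exact Fintype.sum_equiv e (fun x : S.XZ 1 => τ ⟨x, hXP x.2⟩)
        (fun k : UU S => τ ⟨((k : S.LO) : G), LO_le_PP S (k : S.LO).2⟩) fun k => rfl
    have h3 : Nat.card (UU S) = Nat.card (S.XZ 1) := Nat.card_congr (Subgroup.subgroupOfEquivOfLe hX).toEquiv
    have h4 := congrArg (starRingEnd ℂ) h1
    rw [Complex.conj_conj, map_mul, Complex.conj_natCast, Complex.conj_natCast] at h4
    rw [h2, ← h4, h3, mul_comm]
  refine (norm_PP S hτ hR hXP hf).trans ?_
  rw [Complex.norm_natCast]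
  have h5 : (n : ℝ) ≤ 1 := by exact_mod_cast hmu
  have h6 : (0 : ℝ) ≤ n := Nat.cast_nonneg n
  nlinarith

/-- **Nine irreducible characters which agree on the parabolic subgroups are cuspidal.** -/
theorem cuspidal [Fintype G] (s : Finset (IrrCharacter G)) (hs : 9 ≤ s.card)
    (hP : ∀ χ ∈ s, ∀ χ' ∈ s, ∀ g ∈ PP S, (χ : G → ℂ) g = (χ' : G → ℂ) g)
    (hP' : ∀ χ ∈ s, ∀ χ' ∈ s, ∀ g ∈ PB S, (χ : G → ℂ) g = (χ' : G → ℂ) g)
    [Fintype (J S.XZ 2 8)] [Fintype (J S.XZ 1 7)] :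
    ∀ χ ∈ s, ∑ u : J S.XZ 2 8, (χ : G → ℂ) u = 0 ∧ ∑ u : J S.XZ 1 7, (χ : G → ℂ) u = 0 := by
  classical
  have Z := S.zsys8
  have := Fintype.ofFinite (PP S)
  have := Fintype.ofFinite (PB S)
  have := Fintype.ofFinite (BB S)
  have := Fintype.ofFinite (J S.XZ 1 8)
  have := Fintype.ofFinite (S.XZ 1)
  have := Fintype.ofFinite (S.XZ 8)
  have hs9 : (9 : ℝ) ≤ s.card := by exact_mod_cast hs
  have hrc : ∀ (χ : IrrCharacter G) (P : Subgroup G), IsCharacter P fun g : P => (χ : G → ℂ) g := fun χ P =>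
    Core.isCharacter_comp P.subtype (Core.isIrr_isCharacter χ.2)
  -- Step A
  have hA : ∀ χ ∈ s, ∑ u : J S.XZ 1 8, (χ : G → ℂ) u = 0 := by
    intro χ hχ
    by_contra hne
    let U' : Subgroup (BB S) := (J S.XZ 1 8).subgroupOf (BB S)
    have := Fintype.ofFinite U'
    obtain ⟨θ, hθU, hθ⟩ := Lin.exists_lin (hrc χ (BB S)) U' (fun g u hu => by
        rw [Subgroup.mem_subgroupOf] at hu ⊢
        exact BB_norm S g.2 hu) (fun h k => by
        obtain ⟨u, hu, e⟩ := BB_comm S h.2 k.2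
        exact ⟨⟨u, J_le_BB S hu⟩, Subgroup.mem_subgroupOf.2 hu, Subtype.ext e⟩) (by
        intro h0
        apply hne
        rw [← h0]
        exact Fintype.sum_equiv (Subgroup.subgroupOfEquivOfLe (J_le_BB S)).toEquiv.symm _ _ fun k => rfl)
    have hle := card_le_ind (BB S) (Characters.Linear.isCharacter_hom θ) s
      (fun χ hχ χ' hχ' g hg => hP χ hχ χ' hχ' g (BB_le_PP S hg)) hχ hθ
    by_cases hθ1 : θ = 1
    · -- fixed vectors of the Borel subgroup
      have h1 : ∑ b : BB S, (χ : G → ℂ) b ≠ 0 := by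
        intro h0
        apply hθ
        rw [hθ1, classInner_apply]
        have e : ∑ g : BB S, (χ : G → ℂ) g * conj ((((1 : BB S →* ℂˣ) g : ℂˣ)) : ℂ) = ∑ b : BB S, (χ : G → ℂ) b :=
          Finset.sum_congr rfl fun g _ => by simp
        rw [e, h0, mul_zero]
      obtain ⟨τ, hτ, h2, h3⟩ := irr_of_sum_ne_zero (hrc χ (PP S))
        (fun b : BB S => (⟨b, BB_le_PP S b.2⟩ : PP S)) h1
      have h4 := card_le_ind (PP S) (Core.isIrr_isCharacter hτ) s hP hχ h2
      have h5 := norm_of_BB S hτ h3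
      linarith
    · have h1 := norm_BB S θ (fun u hu => hθU u (Subgroup.mem_subgroupOf.2 hu)) hθ1
      linarith
  intro χ hχ
  constructor
  · by_contra hne
    have h28 : J S.XZ 2 8 ≤ PP S := (J_mono (by norm_num) (by norm_num)).trans (J_le_PP S)
    have h18 : J S.XZ 1 8 ≤ PP S := (J_mono (by norm_num) (by norm_num)).trans (J_le_PP S)
    have hX : S.XZ 1 ≤ PP S := (X_le_J le_rfl (by norm_num)).trans h18
    obtain ⟨τ, hτ, h2, h3⟩ := irr_of_sum_ne_zero (hrc χ (PP S))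
      (fun b : J S.XZ 2 8 => (⟨b, h28 b.2⟩ : PP S)) hne
    have hR : ∀ g r : PP S, (r : G) ∈ J S.XZ 2 8 → τ (g * r) = τ g := by
      intro g r hr
      have := Fintype.ofFinite ((J S.XZ 2 8).subgroupOf (PP S))
      refine kernel_of_sum_ne_zero hτ ((J S.XZ 2 8).subgroupOf (PP S)) (fun g k hk => ?_) ?_ g
        (Subgroup.mem_subgroupOf.2 hr)
      · rw [Subgroup.mem_subgroupOf] at hk ⊢
        exact PP_norm S g.2 hk
      · intro h0
        apply h3
        rw [← h0]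
        exact Fintype.sum_equiv (Subgroup.subgroupOfEquivOfLe h28).toEquiv.symm _ _ fun k => rfl
    have h4 := card_le_ind (PP S) (Core.isIrr_isCharacter hτ) s hP hχ h2
    have h5 : ∑ u : J S.XZ 1 8, τ ⟨u, h18 u.2⟩ = 0 :=
      sum_eq_zero_of_constituent (hrc χ (PP S)) hτ h2 (Subgroup.inclusion h18) (hA χ hχ)
    have h6 := sum_U (U := J S.XZ 1 8) (X := S.XZ 1) (R := J S.XZ 2 8) (extendByZero (PP S) τ)
      (X_le_J le_rfl (by norm_num)) (fun g r hr => ?_) (fun g hg => Z.split_ll (by norm_num) (by norm_num) hg)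
    · have h7 : ∑ g : J S.XZ 1 8, extendByZero (PP S) τ g = 0 := by
        rw [← h5]
        exact Finset.sum_congr rfl fun g _ => ext_apply_mem _ _ _ (h18 g.2)
      rw [h7, mul_zero] at h6
      have h8 := (mul_eq_zero.1 h6).resolve_left card_ne_zero'
      have h9 : ∑ x : S.XZ 1, τ ⟨x, hX x.2⟩ = Nat.card (S.XZ 1) * (0 : ℂ) := by
        rw [mul_zero, ← h8]
        exact Finset.sum_congr rfl fun g _ => (ext_apply_mem _ _ _ (hX g.2)).symm
      have h10 := norm_PP S hτ hR hX h9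
      rw [norm_zero] at h10
      norm_num at h10
      linarith
    · by_cases hg : g ∈ PP S
      · rw [ext_apply_mem _ τ g hg, ext_apply_mem _ τ _ (mul_mem hg (h28 hr))]
        exact hR ⟨g, hg⟩ ⟨r, h28 hr⟩ hr
      · rw [ext_apply_not_mem _ τ g hg, ext_apply_not_mem _ τ _ fun h => hg ?_]
        have := mul_mem h (inv_mem (h28 hr))
        rwa [mul_inv_cancel_right] at this
  · by_contra hne
    have h17 : J S.XZ 1 7 ≤ PB S := (J_mono (by norm_num) (by norm_num)).trans (J_le_PB S)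
    have h18 : J S.XZ 1 8 ≤ PB S := (J_mono (by norm_num) (by norm_num)).trans (J_le_PB S)
    have hX : S.XZ 8 ≤ PB S := (X_le_J (by norm_num) le_rfl).trans h18
    obtain ⟨τ, hτ, h2, h3⟩ := irr_of_sum_ne_zero (hrc χ (PB S))
      (fun b : J S.XZ 1 7 => (⟨b, h17 b.2⟩ : PB S)) hne
    have hR : ∀ g r : PB S, (r : G) ∈ J S.XZ 1 7 → τ (g * r) = τ g := by
      intro g r hr
      have := Fintype.ofFinite ((J S.XZ 1 7).subgroupOf (PB S))
      refine kernel_of_sum_ne_zero hτ ((J S.XZ 1 7).subgroupOf (PB S)) (fun g k hk => ?_) ?_ g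
        (Subgroup.mem_subgroupOf.2 hr)
      · rw [Subgroup.mem_subgroupOf] at hk ⊢
        exact PB_norm S g.2 hk
      · intro h0
        apply h3
        rw [← h0]
        exact Fintype.sum_equiv (Subgroup.subgroupOfEquivOfLe h17).toEquiv.symm _ _ fun k => rfl
    have h4 := card_le_ind (PB S) (Core.isIrr_isCharacter hτ) s hP' hχ h2
    have h5 : ∑ u : J S.XZ 1 8, τ ⟨u, h18 u.2⟩ = 0 :=
      sum_eq_zero_of_constituent (hrc χ (PB S)) hτ h2 (Subgroup.inclusion h18) (hA χ hχ)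
    have h6 := sum_U (U := J S.XZ 1 8) (X := S.XZ 8) (R := J S.XZ 1 7) (extendByZero (PB S) τ)
      (X_le_J (by norm_num) le_rfl) (fun g r hr => ?_) (fun g hg => Z.split_rl (by norm_num) (by norm_num) hg)
    · have h7 : ∑ g : J S.XZ 1 8, extendByZero (PB S) τ g = 0 := by
        rw [← h5]
        exact Finset.sum_congr rfl fun g _ => ext_apply_mem _ _ _ (h18 g.2)
      rw [h7, mul_zero] at h6
      have h8 := (mul_eq_zero.1 h6).resolve_left card_ne_zero'
      have h9 : ∑ x : S.XZ 8, τ ⟨x, hX x.2⟩ = Nat.card (S.XZ 8) * (0 : ℂ) := by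
        rw [mul_zero, ← h8]
        exact Finset.sum_congr rfl fun g _ => (ext_apply_mem _ _ _ (hX g.2)).symm
      have h10 := norm_PB S hτ hR hX h9
      rw [norm_zero] at h10
      norm_num at h10
      linarith
    · by_cases hg : g ∈ PB S
      · rw [ext_apply_mem _ τ g hg, ext_apply_mem _ τ _ (mul_mem hg (h17 hr))]
        exact hR ⟨g, hg⟩ ⟨r, h17 hr⟩ hr
      · rw [ext_apply_not_mem _ τ g hg, ext_apply_not_mem _ τ _ fun h => hg ?_]
        have := mul_mem h (inv_mem (h17 hr))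
        rwa [mul_inv_cancel_right] at this

end Cfsg.Agent.H628.Sq.TwFHC
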