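import Cfsg.Agent.H628.Sq.TwFTorus
import Cfsg.Agent.H628.Sq.TwF

/-!
# S4844, row `²F₄(q)`, `q > 2`

* `cusp_row` : an irreducible character whose degree is divisible by `(q-1)²`;
* `sq_tf` : the row.
-/

set_option autoImplicit false

namespace Cfsg.Agent.H628.Sq.TwFMain

open Cfsg Cfsg.Agent.H42.Deg Cfsg.Agent.H42.Deg.F4Two Cfsg.Agent.H42.Deg.F4
open Cfsg.Agent.KFacts.TwF4 hiding od

universe u

section arith

variable {k : ℕ}

theorem eqN : (k + 1) ^ 4 - (k + 1) ^ 2 + 1 = (k + 1) ^ 2 * (k * (k + 2)) + 1 := by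
  have h1 : (k + 1) ^ 4 = (k + 1) ^ 2 * (k * (k + 2)) + (k + 1) ^ 2 := by ring
  omega

theorem prime_aux {r : ℕ} (hr : r.Prime) (h : r ∣ (k + 1) ^ 4 - (k + 1) ^ 2 + 1) :
    ¬ r ∣ k + 1 ∧ ¬ r ∣ k ∧ ¬ r ∣ k + 2 ∧ ¬ r ∣ (k + 1) * (k + 1) + 1 := by
  rw [eqN] at h
  have key : ∀ x, x ∣ (k + 1) ^ 2 * (k * (k + 2)) → ¬ r ∣ x := fun x hx h1 =>
    hr.one_lt.ne' (Nat.dvd_one.1 ((Nat.dvd_add_right (h1.trans hx)).1 h))
  refine ⟨key _ ⟨(k + 1) * (k * (k + 2)), by ring⟩, key _ ⟨(k + 1) ^ 2 * (k + 2), by ring⟩,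
    key _ ⟨(k + 1) ^ 2 * k, by ring⟩, fun h1 => ?_⟩
  have h3 : r ∣ 3 := by
    have h2 : (k + 1) ^ 2 * (k * (k + 2)) + 1 + 2 * ((k + 1) * (k + 1) + 1) = ((k + 1) * (k + 1) + 1) * ((k + 1) * (k + 1)) + 3 := by
      ring
    have h4 : r ∣ (k + 1) ^ 2 * (k * (k + 2)) + 1 + 2 * ((k + 1) * (k + 1) + 1) := dvd_add h (h1.mul_left 2)
    rw [h2] at h4
    exact (Nat.dvd_add_right (h1.mul_right _)).1 h4
  rw [(Nat.prime_dvd_prime_iff_eq hr Nat.prime_three).1 h3] at h1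
  have h5 : k % 3 = 0 ∨ k % 3 = 1 ∨ k % 3 = 2 := by omega
  have h6 := Nat.mod_eq_zero_of_dvd h1
  rcases h5 with h5 | h5 | h5 <;> simp [Nat.add_mod, Nat.mul_mod, h5] at h6

theorem cop_pp {n a : ℕ} (hq : k + 1 = 2 ^ n) (hn : n ≠ 0) :
    ((k + 1) * (k + 1 - 1) * (k + 1 + 1) * ((k + 1 - 1) * 2 ^ a)).Coprime ((k + 1) ^ 4 - (k + 1) ^ 2 + 1) := by
  refine Nat.coprime_of_dvd fun r hr h1 h2 => ?_
  obtain ⟨a1, a2, a3, -⟩ := prime_aux hr h2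
  have h22 : ¬ r ∣ 2 ^ a := fun h => a1 (by
    rw [hq]
    exact (hr.dvd_of_dvd_pow h).trans (dvd_pow_self 2 hn))
  rw [Nat.add_sub_cancel] at h1
  rcases hr.dvd_mul.1 h1 with h1 | h1
  · rcases hr.dvd_mul.1 h1 with h1 | h1
    · rcases hr.dvd_mul.1 h1 with h1 | h1
      · exact a1 h1
      · exact a2 h1
    · exact a3 h1
  · rcases hr.dvd_mul.1 h1 with h1 | h1
    · exact a2 h1
    · exact h22 h1

theorem cop_pb {n a : ℕ} (hq : k + 1 = 2 ^ n) (hn : n ≠ 0) :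
    (((k + 1) * (k + 1)) * (k + 1 - 1) * ((k + 1) * (k + 1) + 1) * ((k + 1 - 1) * 2 ^ a)).Coprime
      ((k + 1) ^ 4 - (k + 1) ^ 2 + 1) := by
  refine Nat.coprime_of_dvd fun r hr h1 h2 => ?_
  obtain ⟨a1, a2, a3, a4⟩ := prime_aux hr h2
  have h22 : ¬ r ∣ 2 ^ a := fun h => a1 (by
    rw [hq]
    exact (hr.dvd_of_dvd_pow h).trans (dvd_pow_self 2 hn))
  rw [Nat.add_sub_cancel] at h1
  rcases hr.dvd_mul.1 h1 with h1 | h1
  · rcases hr.dvd_mul.1 h1 with h1 | h1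
    · rcases hr.dvd_mul.1 h1 with h1 | h1
      · rcases hr.dvd_mul.1 h1 with h1 | h1
        · exact a1 h1
        · exact a1 h1
      · exact a2 h1
    · exact a4 h1
  · rcases hr.dvd_mul.1 h1 with h1 | h1
    · exact a2 h1
    · exact h22 h1

theorem od_lt {a b : ℕ} (ha : 0 < a) (h : a < b) : od (a + 1) < od (b + 1) := by
  rw [TwF.od_eq, TwF.od_eq]
  gcongr

theorem od_inj {a b : ℕ} (ha : 0 < a) (hb : 0 < b) (h : od (a + 1) = od (b + 1)) : a = b := by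
  rcases lt_trichotomy a b with h1 | h1 | h1
  · exact absurd h (od_lt ha h1).ne
  · exact h1
  · exact absurd h (od_lt hb h1).ne'

end arith

/-- the statement about the families of characters -/
def Fam : Prop := ∀ (K : Type) [Field K] [Fintype K] (m : ℕ) (_ : 1 ≤ m) (_ : Fintype.card K = 2 ^ (2 * m + 1))
    [Fintype ↥(Lie.twistedF4 K (2 ^ m))],
    ∃ E : Finset (IrrCharacter ↥(Lie.twistedF4 K (2 ^ m))), 9 ≤ E.card ∧ ∀ χ ∈ E, ∀ χ' ∈ E,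
      ∀ P : Subgroup ↥(Lie.twistedF4 K (2 ^ m)), (Nat.card P).Coprime (Fintype.card K ^ 4 - Fintype.card K ^ 2 + 1) →
        ∀ x ∈ P, (χ : ↥(Lie.twistedF4 K (2 ^ m)) → ℂ) x = (χ' : ↥(Lie.twistedF4 K (2 ^ m)) → ℂ) x

/-- **An irreducible character of degree divisible by `(q-1)²`.** -/
theorem cusp_row (hFam : Fam) {G : Type u} [Group G] [Finite G] (h : Lie.Iso2F4 G) :
    ∃ (k : ℕ) (χ : IrrCharacter G), 0 < k ∧ Nat.card G = od (k + 1) ∧ k ^ 2 ∣ charDegree (χ : G → ℂ) := by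
  classical
  obtain ⟨K, _, _, m, hm, hK, ⟨e⟩⟩ := h
  have hch := Cfsg.Agent.ChevalleyStructure.TwF4.Twisted.charP_two hK
  have hfin : Finite ↥(Lie.twistedF4 K (2 ^ m)) := Finite.of_equiv G e.toEquiv
  obtain ⟨φ, hφ⟩ := Cfsg.Agent.ChevalleyStructure.TwF4.TwistedFix.exists_rln hK
  have hcard := Cfsg.Agent.S1068.result hK
  set S := Cfsg.Agent.KFacts.TwF4.Inst.full hK hφ with hS
  have hF := exists_unit hm hK
  have := Fintype.ofFinite ↥(Lie.twistedF4 K (2 ^ m))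
  obtain ⟨E, hE, hagree⟩ := hFam K m hm hK
  have hq : Nat.card K = 2 ^ (2 * m + 1) := by rw [Nat.card_eq_fintype_card, hK]
  have hq2 : 2 ≤ 2 ^ (2 * m + 1) := by
    calc 2 = 2 ^ 1 := rfl
      _ ≤ _ := Nat.pow_le_pow_right (by norm_num) (by omega)
  obtain ⟨k, hk⟩ : ∃ k, k + 1 = 2 ^ (2 * m + 1) := ⟨2 ^ (2 * m + 1) - 1, by omega⟩
  have hPG := Cfsg.Agent.KFacts.TwF4.Perf.two_J S (show S.R.p = 2 from rfl) (a := 2) (b := 8) (by norm_num)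
  obtain ⟨a, ha⟩ := (IsPGroup.iff_card (p := 2)).1 hPG
  have hPG' := Cfsg.Agent.KFacts.TwF4.Perf.two_J S (show S.R.p = 2 from rfl) (a := 1) (b := 7) (by norm_num)
  obtain ⟨b, hb⟩ := (IsPGroup.iff_card (p := 2)).1 hPG'
  have e1 : (Nat.card (PP S)).Coprime (Fintype.card K ^ 4 - Fintype.card K ^ 2 + 1) := by
    rw [card_PP S hF, card_units, hq, ha, hK, ← hk]
    exact cop_pp hk (by omega)
  have e2 : (Nat.card (F4B.PB S)).Coprime (Fintype.card K ^ 4 - Fintype.card K ^ 2 + 1) := by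
    rw [F4B.card_PB S hF, card_units, hq, hb, hK, ← hk]
    exact cop_pb hk (by omega)
  have := Fintype.ofFinite (Cfsg.Agent.SplitTwo.ZS.J S.XZ 2 8)
  have := Fintype.ofFinite (Cfsg.Agent.SplitTwo.ZS.J S.XZ 1 7)
  have hcusp := TwFHC.cuspidal S E hE (fun χ hχ χ' hχ' g hg => hagree χ hχ χ' hχ' _ e1 g hg)
    (fun χ hχ χ' hχ' g hg => hagree χ hχ χ' hχ' _ e2 g hg)
  obtain ⟨χ, hχ⟩ := Finset.card_pos.1 (show 0 < E.card by omega)
  obtain ⟨h28, h17⟩ := hcusp χ hχ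
  have hd := TwFTorus.sq_dvd S χ.2 h28 h17
  obtain ⟨ψ, hψ⟩ := transport e χ.2
  refine ⟨k, ψ, by omega, ?_, ?_⟩
  · rw [Nat.card_congr e.toEquiv, hcard, ← hk]
    rfl
  · rw [hψ]
    rw [hq, ← hk, Nat.add_sub_cancel] at hd
    exact hd

theorem sq_tf_of_fam (hFam : Fam) {S : Type u} [Group S] [Finite S] (h : Lie.Iso2F4 S) {p : ℕ} [hp : Fact p.Prime]
    (hp2 : p ≠ 2) (hd : p ^ 2 ∣ Nat.card S) : H33.IM (p ^ 2) S := by
  refine TwF.sq_tf_of h hp2 hd fun n k hq hc hpk _ => ?_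
  obtain ⟨k', χ, hk', hc', hχ⟩ := cusp_row hFam h
  have hk : 0 < k := by
    rcases Nat.eq_zero_or_pos k with rfl | h0
    · exfalso
      have h1 : Nat.card S = 0 := by
        rw [hc]
        norm_num [od]
      exact Nat.card_pos.ne' h1
    · exact h0
  have e : k' = k := od_inj hk' hk (hc'.symm.trans hc)
  subst e
  exact ⟨χ, (pow_dvd_pow_of_dvd hpk 2).trans hχ⟩

end Cfsg.Agent.H628.Sq.TwFMain
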