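import Cfsg.Agent.H628.Sq.Par
import Cfsg.Agent.H628.Sq.Lin
import Cfsg.Agent.H42.Deg.F4Big
import Cfsg.Agent.H42.Deg.F4BigB

/-!
# `²F₄(q)`: the norms of the Harish-Chandra induced characters

* `norm_PP`, `norm_PB` : `‖Ind_P τ‖² ≤ 2 + 3 f²`, `f` the multiplicity of the trivial character of `X_1` (`X_8`);
* `norm_BB` : `‖Ind_B θ‖² ≤ 8` for `θ ≠ 1`.
-/

set_option autoImplicit false
set_option linter.unusedSectionVars false

open scoped ComplexConjugate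

namespace Cfsg.Agent.H628.Sq.TwFNorm

open Cfsg Cfsg.Agent.SplitTwo Cfsg.Agent.SplitTwo.ZS Cfsg.Agent.TitsThree.RankTwoZ Cfsg.Agent.SplitTwo.RootSysZ
open Cfsg.Agent.KFacts.TwF4 Cfsg.Agent.KFacts.TwF4.Arc Cfsg.Agent.KFacts.TwF4.SylU Cfsg.Agent.KFacts.TwF4.TorEx
open Cfsg.Agent.KFacts.TwF4.Full Cfsg.Agent.KFacts.TwF4.Irr
open Cfsg.Agent.H42.Deg.F4 Cfsg.Agent.H628.Sq.Par Cfsg.Agent.H628.Sq.Lin
open Cfsg.Agent.H42.Deg.F4B (PB NB NB_form PB_form J_le_PB T_le_PB L4_le_PB NB_le_PB rot4_T)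

universe u

variable {F : Type*} [Field F] {σ : F →+* F} {G : Type u} [Group G] (S : Full σ G)

/-- the representative `k ↦ 2 c - k` -/
def rp (c : ℤ) : G := S.rot ^ (c - 5) * S.n1

theorem rp_maps (c : ℤ) : Maps S.R.X (rp S c) (fun k => ((2 * c : ℤ) : ZMod (2 * 8)) - k) := by
  refine ((S.rot_maps (c - 5)).mul S.n1_maps).congr fun k => ?_
  show ((2 * (c - 5) : ℤ) : ZMod (2 * 8)) + (10 - k) = ((2 * c : ℤ) : ZMod (2 * 8)) - k
  push_cast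
  ring

theorem rp_inv_maps (c : ℤ) : Maps S.R.X (rp S c)⁻¹ (fun k => ((2 * c : ℤ) : ZMod (2 * 8)) - k) :=
  (rp_maps S c).inv fun k => sub_sub_cancel _ k

/-- an element with the same action differs by an element of the torus -/
theorem rp_T {c : ℤ} {y : G} (hy : Maps S.R.X y (fun k => ((2 * c : ℤ) : ZMod (2 * 8)) - k)) :
    (rp S c)⁻¹ * y ∈ S.T := by
  show Maps S.R.X _ id
  exact ((rp_inv_maps S c).mul hy).congr fun k => sub_sub_cancel _ k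

theorem conj_T {w : G} {c : ℤ} (hw : Maps S.R.X w (fun k => ((2 * c : ℤ) : ZMod (2 * 8)) - k)) {t : G} (ht : t ∈ S.T) :
    w⁻¹ * t * w ∈ S.T := by
  show Maps S.R.X _ id
  have hwi : Maps S.R.X w⁻¹ (fun k => ((2 * c : ℤ) : ZMod (2 * 8)) - k) := hw.inv fun k => sub_sub_cancel _ k
  exact ((hwi.mul ht).mul hw).congr fun k => sub_sub_cancel _ k

/-- conjugation on arcs -/
theorem conj_J {w : G} {c : ℤ} (hw : Maps S.R.X w (fun k => ((2 * c : ℤ) : ZMod (2 * 8)) - k)) {a b : ℤ} {x : G}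
    (hx : x ∈ J S.XZ a b) : w⁻¹ * x * w ∈ J S.XZ (2 * c - b) (2 * c - a) := by
  have hwi : Maps S.R.X w⁻¹ (fun k => ((2 * c : ℤ) : ZMod (2 * 8)) - k) := hw.inv fun k => sub_sub_cancel _ k
  have := S.map_sub hwi hx
  rwa [inv_inv] at this

/-- a subgroup stable under conjugation in both directions -/
theorem iff_of_maps {w : G} {c : ℤ} (hw : Maps S.R.X w (fun k => ((2 * c : ℤ) : ZMod (2 * 8)) - k)) (L : Subgroup G)
    (h : ∀ w : G, Maps S.R.X w (fun k => ((2 * c : ℤ) : ZMod (2 * 8)) - k) → ∀ l ∈ L, w⁻¹ * l * w ∈ L) (l : G) :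
    l ∈ L ↔ w⁻¹ * l * w ∈ L := by
  refine ⟨h w hw l, fun h1 => ?_⟩
  have hwi : Maps S.R.X w⁻¹ (fun k => ((2 * c : ℤ) : ZMod (2 * 8)) - k) := hw.inv fun k => sub_sub_cancel _ k
  have h2 := h w⁻¹ hwi _ h1
  rwa [show w⁻¹⁻¹ * (w⁻¹ * l * w) * w⁻¹ = l by group] at h2

/-! ### `PP` -/

variable [Finite F]

theorem LO_le : S.T ⊔ S.LO ≤ PP S := sup_le (T_le_PP S) (LO_le_PP S)

theorem conj_LO {w : G} (hw : Maps S.R.X w (fun k => ((2 * 1 : ℤ) : ZMod (2 * 8)) - k)) {l : G}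
    (hl : l ∈ S.T ⊔ S.LO) : w⁻¹ * l * w ∈ S.T ⊔ S.LO := by
  have hwi : Maps S.R.X w⁻¹ (fun k => ((2 * 1 : ℤ) : ZMod (2 * 8)) - k) := hw.inv fun k => sub_sub_cancel _ k
  have h1 : S.XZ 1 ≤ S.T ⊔ S.LO := le_sup_left.trans le_sup_right
  have h9 : S.XZ 9 ≤ S.T ⊔ S.LO := le_sup_right.trans le_sup_right
  have : S.T ⊔ S.LO ≤ (S.T ⊔ S.LO).comap (MulAut.conj w⁻¹).toMonoidHom := by
    refine sup_le (fun t ht => ?_) (sup_le (fun x hx => ?_) fun x hx => ?_)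
    · show w⁻¹ * t * w⁻¹⁻¹ ∈ S.T ⊔ S.LO
      rw [inv_inv]
      exact Subgroup.mem_sup_left (conj_T S hw ht)
    · show w⁻¹ * x * w⁻¹⁻¹ ∈ S.T ⊔ S.LO
      apply h1
      have h5 : w⁻¹ * x * w⁻¹⁻¹ ∈ S.R.X (((2 * 1 : ℤ) : ZMod (2 * 8)) - ((1 : ℤ) : ZMod (2 * 8))) :=
        (hwi ((1 : ℤ) : ZMod (2 * 8)) x).2 hx
      rw [show ((2 * 1 : ℤ) : ZMod (2 * 8)) - ((1 : ℤ) : ZMod (2 * 8)) = ((1 : ℤ) : ZMod (2 * 8)) by decide] at h5
      exact h5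
    · show w⁻¹ * x * w⁻¹⁻¹ ∈ S.T ⊔ S.LO
      apply h9
      have h5 : w⁻¹ * x * w⁻¹⁻¹ ∈ S.R.X (((2 * 1 : ℤ) : ZMod (2 * 8)) - ((9 : ℤ) : ZMod (2 * 8))) :=
        (hwi ((9 : ℤ) : ZMod (2 * 8)) x).2 hx
      rw [show ((2 * 1 : ℤ) : ZMod (2 * 8)) - ((9 : ℤ) : ZMod (2 * 8)) = ((9 : ℤ) : ZMod (2 * 8)) by decide] at h5
      exact h5
  have h2 := this hl
  have h3 : w⁻¹ * l * w⁻¹⁻¹ ∈ S.T ⊔ S.LO := h2
  rwa [inv_inv] at h3

theorem norm_PP [Fintype G] [Fintype (PP S)] [Fintype (S.XZ 1)] {τ : PP S → ℂ} (hτ : IsIrrCharacter (PP S) τ)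
    (hR : ∀ g r : PP S, (r : G) ∈ J S.XZ 2 8 → τ (g * r) = τ g) (hX : S.XZ 1 ≤ PP S) {f : ℂ}
    (hf : ∑ x : S.XZ 1, τ ⟨x, hX x.2⟩ = Nat.card (S.XZ 1) * f) :
    ‖classInner (indFun (PP S) τ) (indFun (PP S) τ)‖ ≤ 2 + 3 * ‖f‖ ^ 2 := by
  have Z := S.zsys8
  have h28 : J S.XZ 2 8 ≤ PP S := (J_mono (by norm_num) (by norm_num)).trans (J_le_PP S)
  have key := norm_par (PP S) (J S.XZ 2 8) (S.XZ 1) (S.T ⊔ S.LO) h28 hX (LO_le S) ?_ (ι := Fin 3)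
    (fun i => rp S ((i : ℕ) + 2)) (rp S 1) ?_ (iff_of_maps S (rp_maps S 1) _ fun w hw l hl => conj_LO S hw hl)
    (fun i => J S.XZ 1 (2 * (i : ℕ) + 3)) ?_ ?_ ?_ ?_ hτ hR hf
  · refine key.trans (le_of_eq ?_)
    rw [Fintype.card_fin]
    norm_num
  · intro g hg
    obtain ⟨l, hl, n, hn, rfl⟩ := PP_form S hg
    obtain ⟨z, hz, y, hy, rfl⟩ := N1_form S hn
    exact ⟨l * z, mul_mem (Subgroup.mem_sup_right hl) (Subgroup.mem_sup_left (ZJ_le_T S hz)), y, hy, by rw [mul_assoc]⟩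
  · intro x hx
    obtain ⟨a, ha, b, hb, y, hxy, c, hc1, hc4, hy⟩ := dcoset S hx
    have ht := rp_T S hy
    have e : x = a * rp S c * (((rp S c)⁻¹ * y) * b) := by rw [hxy]; group
    have hb' := mul_mem (T_le_PP S ht) hb
    rcases eq_or_lt_of_le hc1 with h1 | h1
    · left
      subst h1
      exact ⟨a, ha, _, hb', e⟩
    · right
      refine ⟨⟨(c - 2).toNat, by omega⟩, a, ha, _, hb', ?_⟩
      have h2 : (((c - 2).toNat : ℕ) : ℤ) + 2 = c := by omega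
      show x = a * rp S ((((c - 2).toNat : ℕ) : ℤ) + 2) * _
      rw [h2]
      exact e
  · intro i
    exact X_le_J le_rfl (by omega)
  · intro i m hm
    have hi := i.2
    obtain ⟨x, hx, y, hy, rfl⟩ := Z.split_ll (by omega) (by omega) hm
    exact ⟨x, hx, y, J_mono (by omega) (by omega) hy, rfl⟩
  · intro i x hx
    have hi := i.2
    have h1 := conj_J S (rp_maps S ((i : ℕ) + 2)) (mem_J hx le_rfl le_rfl)
    exact J_mono (by omega) (by omega) h1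
  · intro i
    refine iff_of_maps S (rp_maps S ((i : ℕ) + 2)) _ fun w hw l hl => ?_
    have h1 := conj_J S hw hl
    exact J_mono (by omega) (by omega) h1

/-! ### `PB` -/

theorem L4_le : S.T ⊔ L4 S ≤ PB S := sup_le (T_le_PB S) (L4_le_PB S)

theorem conj_L4 {w : G} (hw : Maps S.R.X w (fun k => ((2 * 8 : ℤ) : ZMod (2 * 8)) - k)) {l : G}
    (hl : l ∈ S.T ⊔ L4 S) : w⁻¹ * l * w ∈ S.T ⊔ L4 S := by
  have hwi : Maps S.R.X w⁻¹ (fun k => ((2 * 8 : ℤ) : ZMod (2 * 8)) - k) := hw.inv fun k => sub_sub_cancel _ k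
  have h1 : S.XZ 0 ≤ S.T ⊔ L4 S := le_sup_left.trans le_sup_right
  have h9 : S.XZ 8 ≤ S.T ⊔ L4 S := le_sup_right.trans le_sup_right
  have : S.T ⊔ L4 S ≤ (S.T ⊔ L4 S).comap (MulAut.conj w⁻¹).toMonoidHom := by
    refine sup_le (fun t ht => ?_) (sup_le (fun x hx => ?_) fun x hx => ?_)
    · show w⁻¹ * t * w⁻¹⁻¹ ∈ S.T ⊔ L4 S
      rw [inv_inv]
      exact Subgroup.mem_sup_left (conj_T S hw ht)
    · show w⁻¹ * x * w⁻¹⁻¹ ∈ S.T ⊔ L4 S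
      apply h1
      have h5 : w⁻¹ * x * w⁻¹⁻¹ ∈ S.R.X (((2 * 8 : ℤ) : ZMod (2 * 8)) - ((0 : ℤ) : ZMod (2 * 8))) :=
        (hwi ((0 : ℤ) : ZMod (2 * 8)) x).2 hx
      rw [show ((2 * 8 : ℤ) : ZMod (2 * 8)) - ((0 : ℤ) : ZMod (2 * 8)) = ((0 : ℤ) : ZMod (2 * 8)) by decide] at h5
      exact h5
    · show w⁻¹ * x * w⁻¹⁻¹ ∈ S.T ⊔ L4 S
      apply h9
      have h5 : w⁻¹ * x * w⁻¹⁻¹ ∈ S.R.X (((2 * 8 : ℤ) : ZMod (2 * 8)) - ((8 : ℤ) : ZMod (2 * 8))) :=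
        (hwi ((8 : ℤ) : ZMod (2 * 8)) x).2 hx
      rw [show ((2 * 8 : ℤ) : ZMod (2 * 8)) - ((8 : ℤ) : ZMod (2 * 8)) = ((8 : ℤ) : ZMod (2 * 8)) by decide] at h5
      exact h5
  have h2 := this hl
  have h3 : w⁻¹ * l * w⁻¹⁻¹ ∈ S.T ⊔ L4 S := h2
  rwa [inv_inv] at h3

theorem norm_PB [Fintype G] [Fintype (PB S)] [Fintype (S.XZ 8)] {τ : PB S → ℂ} (hτ : IsIrrCharacter (PB S) τ)
    (hR : ∀ g r : PB S, (r : G) ∈ J S.XZ 1 7 → τ (g * r) = τ g) (hX : S.XZ 8 ≤ PB S) {f : ℂ}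
    (hf : ∑ x : S.XZ 8, τ ⟨x, hX x.2⟩ = Nat.card (S.XZ 8) * f) :
    ‖classInner (indFun (PB S) τ) (indFun (PB S) τ)‖ ≤ 2 + 3 * ‖f‖ ^ 2 := by
  have Z := S.zsys8
  have h17 : J S.XZ 1 7 ≤ PB S := (J_mono (by norm_num) (by norm_num)).trans (J_le_PB S)
  have key := norm_par (PB S) (J S.XZ 1 7) (S.XZ 8) (S.T ⊔ L4 S) h17 hX (L4_le S) ?_ (ι := Fin 3)
    (fun i => rp S ((i : ℕ) + 5)) (rp S 8) ?_ (iff_of_maps S (rp_maps S 8) _ fun w hw l hl => conj_L4 S hw hl)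
    (fun i => J S.XZ (2 * (i : ℕ) + 2) 8) ?_ ?_ ?_ ?_ hτ hR hf
  · refine key.trans (le_of_eq ?_)
    rw [Fintype.card_fin]
    norm_num
  · intro g hg
    obtain ⟨l, hl, n, hn, rfl⟩ := PB_form S hg
    obtain ⟨z, hz, y, hy, rfl⟩ := NB_form S hn
    exact ⟨l * z, mul_mem (Subgroup.mem_sup_right hl) (Subgroup.mem_sup_left (Cfsg.Agent.H42.Deg.F4B.ZE_le_T S hz)),
      y, hy, by rw [mul_assoc]⟩
  · intro x hx
    obtain ⟨a, ha, b, hb, y, hxy, c, hc1, hc4, hy⟩ := Cfsg.Agent.H42.Deg.F4B.dcoset S hx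
    have ht := rp_T S hy
    have e : x = a * rp S c * (((rp S c)⁻¹ * y) * b) := by rw [hxy]; group
    have hb' := mul_mem (T_le_PB S ht) hb
    rcases eq_or_lt_of_le hc4 with h1 | h1
    · left
      subst h1
      exact ⟨a, ha, _, hb', e⟩
    · right
      refine ⟨⟨(c - 5).toNat, by omega⟩, a, ha, _, hb', ?_⟩
      have h2 : (((c - 5).toNat : ℕ) : ℤ) + 5 = c := by omega
      show x = a * rp S ((((c - 5).toNat : ℕ) : ℤ) + 5) * _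
      rw [h2]
      exact e
  · intro i
    have hi := i.2
    exact X_le_J (by omega) le_rfl
  · intro i m hm
    have hi := i.2
    obtain ⟨x, hx, y, hy, rfl⟩ := Z.split_rl (by omega) (by omega) hm
    exact ⟨x, hx, y, J_mono (by omega) (by omega) hy, rfl⟩
  · intro i x hx
    have hi := i.2
    have h1 := conj_J S (rp_maps S ((i : ℕ) + 5)) (mem_J hx le_rfl le_rfl)
    exact J_mono (by omega) (by omega) h1
  · intro i
    refine iff_of_maps S (rp_maps S ((i : ℕ) + 5)) _ fun w hw l hl => ?_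
    have h1 := conj_J S hw hl
    exact J_mono (by omega) (by omega) h1

/-! ### the Borel subgroup -/

/-- the Borel subgroup -/
def BB : Subgroup G := S.T ⊔ J S.XZ 1 8

theorem T_le_BB : S.T ≤ BB S := le_sup_left
theorem J_le_BB : J S.XZ 1 8 ≤ BB S := le_sup_right

/-- the representatives of the double cosets -/
def rb (i : Fin 4 × Bool) (c : Bool) : G :=
  S.rot ^ (if c then (4 : ℤ) else 0) * (S.rot ^ ((i.1 : ℕ) : ℤ) * if i.2 then S.n1 else 1)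

theorem conj_T_rot (k : ℤ) {t : G} (ht : t ∈ S.T) : (S.rot ^ k)⁻¹ * t * S.rot ^ k ∈ S.T := by
  show Maps S.R.X _ id
  have h1 : Maps S.R.X (S.rot ^ k)⁻¹ (fun j => ((2 * (-k) : ℤ) : ZMod (2 * 8)) + j) := by
    rw [← zpow_neg]
    exact S.rot_maps (-k)
  refine ((h1.mul ht).mul (S.rot_maps k)).congr fun j => ?_
  show ((2 * (-k) : ℤ) : ZMod (2 * 8)) + (((2 * k : ℤ) : ZMod (2 * 8)) + j) = j
  push_cast
  ring

theorem conj_T_n1 {t : G} (ht : t ∈ S.T) : S.n1⁻¹ * t * S.n1 ∈ S.T := by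
  have h1 : Maps S.R.X S.n1 (fun k => ((2 * 5 : ℤ) : ZMod (2 * 8)) - k) := S.n1_maps.congr fun k => by
    show (10 : ZMod (2 * 8)) - k = _
    norm_num
  exact conj_T S h1 ht

theorem rb_T (i : Fin 4 × Bool) (c : Bool) {t : G} (ht : t ∈ S.T) : (rb S i c)⁻¹ * t * rb S i c ∈ S.T := by
  unfold rb
  have h1 := conj_T_rot S (if c then (4 : ℤ) else 0) ht
  have h2 := conj_T_rot S ((i.1 : ℕ) : ℤ) h1
  have e : (S.rot ^ (if c then (4 : ℤ) else 0) * (S.rot ^ ((i.1 : ℕ) : ℤ) * if i.2 then S.n1 else 1))⁻¹ * t *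
      (S.rot ^ (if c then (4 : ℤ) else 0) * (S.rot ^ ((i.1 : ℕ) : ℤ) * if i.2 then S.n1 else 1)) =
      (if i.2 then S.n1 else 1)⁻¹ * ((S.rot ^ ((i.1 : ℕ) : ℤ))⁻¹ * ((S.rot ^ (if c then (4 : ℤ) else 0))⁻¹ * t *
        S.rot ^ (if c then (4 : ℤ) else 0)) * S.rot ^ ((i.1 : ℕ) : ℤ)) * (if i.2 then S.n1 else 1) := by group
  rw [e]
  have h3 : ∀ (b : Bool) (s : G), s ∈ S.T → (if b then S.n1 else 1)⁻¹ * s * (if b then S.n1 else 1) ∈ S.T := by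
    intro b s hs
    cases b
    · simpa using hs
    · simpa using conj_T_n1 S hs
  exact h3 _ _ h2

theorem rb_inv [Finite G] (i : Fin 4 × Bool) {t : G} (ht : t ∈ S.T) :
    (rb S i true)⁻¹ * t * rb S i true = ((rb S i false)⁻¹ * t * rb S i false)⁻¹ := by
  have h1 : (S.rot ^ (4 : ℤ))⁻¹ * t * S.rot ^ (4 : ℤ) = t⁻¹ := by
    have := rot4_T S ht
    rw [zpow_neg, inv_inv] at this
    exact this
  unfold rb
  simp only [if_true, Bool.false_eq_true, if_false, zpow_zero, one_mul]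
  set r := S.rot ^ ((i.1 : ℕ) : ℤ) * if i.2 then S.n1 else 1 with hr
  calc (S.rot ^ (4 : ℤ) * r)⁻¹ * t * (S.rot ^ (4 : ℤ) * r) = r⁻¹ * ((S.rot ^ (4 : ℤ))⁻¹ * t * S.rot ^ (4 : ℤ)) * r := by
        group
    _ = (r⁻¹ * t * r)⁻¹ := by rw [h1]; group

theorem cover (x : G) : ∃ i c, ∃ a ∈ BB S, ∃ b ∈ BB S, x = a * rb S i c * b := by
  obtain ⟨b, hb, t, ht, w, hw, b', hb', rfl⟩ := S.bruhatE x
  have hbB : b ∈ BB S := J_le_BB S hb
  have hbB' : b' ∈ BB S := J_le_BB S hb'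
  have htB : t ∈ BB S := T_le_BB S ht
  -- it is enough to find a representative of `w` modulo the torus
  suffices h : ∃ i c, ((rb S i c)⁻¹ * w) ∈ S.T by
    obtain ⟨i, c, h⟩ := h
    exact ⟨i, c, b * t, mul_mem hbB htB, ((rb S i c)⁻¹ * w) * b', mul_mem (T_le_BB S h) hbB', by group⟩
  -- rotations
  have hrot : ∀ (c : ℤ) (w : G), Maps S.R.X w (fun k => ((2 * c : ℤ) : ZMod (2 * 8)) + k) →
      ∃ (i : Fin 4) (d : Bool), (S.rot ^ (if d then (4 : ℤ) else 0) * S.rot ^ ((i : ℕ) : ℤ))⁻¹ * w ∈ S.T := by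
    intro c w hc
    obtain ⟨c', h1, h2, h3⟩ := reduce c 0
    rw [h3] at hc
    have key : ∀ k : ℤ, k = c' → (S.rot ^ k)⁻¹ * w ∈ S.T := by
      rintro k rfl
      show Maps S.R.X _ id
      have h4 : Maps S.R.X (S.rot ^ k)⁻¹ (fun j => ((2 * (-k) : ℤ) : ZMod (2 * 8)) + j) := by
        rw [← zpow_neg]
        exact S.rot_maps (-k)
      refine (h4.mul hc).congr fun j => ?_
      show ((2 * (-k) : ℤ) : ZMod (2 * 8)) + (((2 * k : ℤ) : ZMod (2 * 8)) + j) = j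
      push_cast
      ring
    by_cases h5 : c' < 4
    · refine ⟨⟨c'.toNat, by omega⟩, false, ?_⟩
      simp only [Bool.false_eq_true, if_false, zpow_zero, one_mul]
      exact key _ (by omega)
    · refine ⟨⟨(c' - 4).toNat, by omega⟩, true, ?_⟩
      simp only [if_true]
      rw [← zpow_add]
      exact key _ (by omega)
  obtain ⟨c, hc | hc⟩ := hw
  · obtain ⟨i, d, h⟩ := hrot c w hc
    refine ⟨(i, false), d, ?_⟩
    unfold rb
    simpa using h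
  · -- reflections
    have h1 : Maps S.R.X (w * S.n1⁻¹) (fun k => ((2 * (c - 5) : ℤ) : ZMod (2 * 8)) + k) := by
      have h2 : Maps S.R.X S.n1⁻¹ (fun k => 10 - k) := S.n1_maps.inv fun k => sub_sub_cancel _ k
      refine (hc.mul h2).congr fun k => ?_
      show ((2 * c : ℤ) : ZMod (2 * 8)) - (10 - k) = _
      push_cast
      ring
    obtain ⟨i, d, h⟩ := hrot _ _ h1
    refine ⟨(i, true), d, ?_⟩
    unfold rb
    simp only [if_true]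
    have e : (S.rot ^ (if d then (4 : ℤ) else 0) * (S.rot ^ ((i : ℕ) : ℤ) * S.n1))⁻¹ * w =
        S.n1⁻¹ * ((S.rot ^ (if d then (4 : ℤ) else 0) * S.rot ^ ((i : ℕ) : ℤ))⁻¹ * (w * S.n1⁻¹)) * S.n1 := by group
    rw [e]
    exact conj_T_n1 S h

/-- **The norm of `Ind_B θ`.** -/
theorem norm_BB [Fintype G] [Fintype (BB S)] (θ : BB S →* ℂˣ) (hU : ∀ u : BB S, (u : G) ∈ J S.XZ 1 8 → θ u = 1)
    (hθ : θ ≠ 1) : ‖classInner (indFun (BB S) (fun t => (θ t : ℂ))) (indFun (BB S) (fun t => (θ t : ℂ)))‖ ≤ 8 := by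
  have key := norm_lin (BB S) S.T (T_le_BB S) (rb S) (cover S) (fun i c t ht => rb_T S i c ht)
    (fun i t ht => rb_inv S i ht) θ ?_
  · refine key.trans (le_of_eq ?_)
    rw [Fintype.card_prod, Fintype.card_fin, Fintype.card_bool]
    norm_num
  · by_contra hcon
    push Not at hcon
    apply hθ
    have hT : ∀ t (ht : t ∈ S.T), θ ⟨t, T_le_BB S ht⟩ = 1 := by
      intro t ht
      obtain ⟨c, d, rfl⟩ := S.mem_T.1 ht
      obtain ⟨a, ha⟩ := exists_sq S c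
      obtain ⟨b, hb⟩ := exists_sq S d
      have hs : S.h a b ∈ S.T := S.mem_T.2 ⟨a, b, rfl⟩
      have e : (⟨S.h c d, T_le_BB S ht⟩ : BB S) = ⟨S.h a b, T_le_BB S hs⟩ * ⟨S.h a b, T_le_BB S hs⟩ :=
        Subtype.ext (by
          show S.h c d = S.h a b * S.h a b
          rw [S.h_mul, ha, hb])
      rw [e, map_mul]
      exact hcon _ hs
    ext ⟨x, hx⟩
    rw [MonoidHom.one_apply]
    congr 1
    obtain ⟨t, ht, u, hu, rfl⟩ := mem_sup_of_norm (A := S.T) (B := J S.XZ 1 8)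
      (fun t ht u hu => S.T_conj_J ht hu) hx
    have e : (⟨t * u, hx⟩ : BB S) = ⟨t, T_le_BB S ht⟩ * ⟨u, J_le_BB S hu⟩ := rfl
    rw [e, map_mul, hT t ht, hU _ hu, one_mul]

end Cfsg.Agent.H628.Sq.TwFNorm
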