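import Cfsg.Agent.H628.Sq.TwFHC
import Cfsg.Agent.H710.Cuspidal

/-!
# `²F₄(q)`: cuspidal characters vanish on the nonidentity elements of the torus

* `one_pair` : an element `≠ 1` of the torus has fixed points on at most one pair of opposite root groups;
* `zero_at` : cuspidal characters vanish there;
* `card_T`, `sq_dvd` : `(q-1)²` divides the degrees of the cuspidal characters.
-/

set_option autoImplicit false
set_option linter.unusedSectionVars false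

namespace Cfsg.Agent.H628.Sq.TwFTorus

open Cfsg Cfsg.Agent.SplitTwo Cfsg.Agent.SplitTwo.ZS Cfsg.Agent.TitsThree.RankTwoZ Cfsg.Agent.SplitTwo.RootSysZ
open Cfsg.Agent.KFacts.TwF4 Cfsg.Agent.KFacts.TwF4.Arc Cfsg.Agent.KFacts.TwF4.SylU Cfsg.Agent.KFacts.TwF4.TorEx
open Cfsg.Agent.KFacts.TwF4.Full

universe u

/-! ### linear forms with coefficients in `ℤ[√2]` -/

section forms

variable {F : Type*} [Field F] {σ : F →+* F}

/-- the product in `ℤ[√2]` -/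
def ml (e g : ℤ × ℤ) : ℤ × ℤ := (e.1 * g.1 + 2 * (e.2 * g.2), e.1 * g.2 + e.2 * g.1)

theorem ml_comm (e g : ℤ × ℤ) : ml e g = ml g e := by
  unfold ml
  exact Prod.ext (by ring) (by ring)

theorem pw_pw (hσ : ∀ x, σ (σ x) = x ^ 2) (w : Fˣ) (e g : ℤ × ℤ) : pw σ (pw σ w e) g = pw σ w (ml e g) := by
  have h1 : Units.map (σ : F →* F) (pw σ w e) = pw σ w (sh e) := map_pw hσ e
  show pw σ w e ^ g.1 * (Units.map (σ : F →* F) (pw σ w e)) ^ g.2 = _
  rw [h1]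
  unfold pw sh ml
  simp only
  rw [mul_zpow, mul_zpow, ← zpow_mul, ← zpow_mul, ← zpow_mul, ← zpow_mul, mul_mul_mul_comm, ← zpow_add, ← zpow_add]
  congr 2 <;> ring

theorem pw_base (x y : Fˣ) (g : ℤ × ℤ) : pw σ (x * y) g = pw σ x g * pw σ y g := by
  unfold pw
  rw [map_mul, mul_zpow, mul_zpow, mul_mul_mul_comm]

theorem pw_one (g : ℤ × ℤ) : pw σ (1 : Fˣ) g = 1 := by
  unfold pw
  rw [map_one, one_zpow, one_zpow, one_mul]

/-- the value of a linear form -/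
def fm (σ : F →+* F) (c d : Fˣ) (L : (ℤ × ℤ) × (ℤ × ℤ)) : Fˣ := pw σ c L.1 * pw σ d L.2

/-- the determinant -/
def det (L M : (ℤ × ℤ) × (ℤ × ℤ)) : ℤ × ℤ := ml L.1 M.2 - ml L.2 M.1

theorem fm_det (hσ : ∀ x, σ (σ x) = x ^ 2) {c d : Fˣ} {L M : (ℤ × ℤ) × (ℤ × ℤ)} (hL : fm σ c d L = 1)
    (hM : fm σ c d M = 1) : pw σ c (det L M) = 1 ∧ pw σ d (det L M) = 1 := by
  have key : ∀ (N : (ℤ × ℤ) × (ℤ × ℤ)) (g : ℤ × ℤ), fm σ c d N = 1 → pw σ c (ml N.1 g) * pw σ d (ml N.2 g) = 1 := by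
    intro N g hN
    rw [← pw_pw hσ, ← pw_pw hσ, ← pw_base]
    show pw σ (fm σ c d N) g = 1
    rw [hN, pw_one]
  have h1 := key L M.2 hL
  have h2 := key M L.2 hM
  have h3 := key L M.1 hL
  have h4 := key M L.1 hM
  constructor
  · have h5 : pw σ c (ml L.1 M.2) * pw σ d (ml L.2 M.2) / (pw σ c (ml M.1 L.2) * pw σ d (ml M.2 L.2)) = 1 := by
      rw [h1, h2, div_one]
    rw [ml_comm M.2 L.2, mul_div_mul_right_eq_div, pw_div, ml_comm M.1 L.2] at h5
    exact h5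
  · have h5 : pw σ c (ml M.1 L.1) * pw σ d (ml M.2 L.1) / (pw σ c (ml L.1 M.1) * pw σ d (ml L.2 M.1)) = 1 := by
      rw [h4, h3, div_one]
    rw [ml_comm M.1 L.1, mul_div_mul_left_eq_div, pw_div, ml_comm M.2 L.1] at h5
    exact h5

/-- the characters of the even root groups -/
def LE (a : ZMod 8) : (ℤ × ℤ) × (ℤ × ℤ) :=
  (![((1, 0), (0, 0)), ((0, 0), (1, 0)), ((-1, 0), (0, 1)), ((0, -1), (1, 0)),
    ((-1, 0), (0, 0)), ((0, 0), (-1, 0)), ((1, 0), (0, -1)), ((0, 1), (-1, 0))] : Fin 8 → (ℤ × ℤ) × (ℤ × ℤ)) a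

/-- the characters of the odd root groups -/
def LO (a : ZMod 8) : (ℤ × ℤ) × (ℤ × ℤ) := LE a + LE (a + 1)

theorem chE_fm (a : ZMod 8) (c d : Fˣ) : chE σ a c d = fm σ c d (LE a) := by
  have key : ∀ a : Fin 8, chE σ (a : ZMod 8) c d = fm σ c d (LE (a : ZMod 8)) := by
    intro a
    fin_cases a
    · show c = c ^ (1 : ℤ) * (Units.map (σ : F →* F) c) ^ (0 : ℤ) * (d ^ (0 : ℤ) * (Units.map (σ : F →* F) d) ^ (0 : ℤ))
      simp
    · show d = c ^ (0 : ℤ) * (Units.map (σ : F →* F) c) ^ (0 : ℤ) * (d ^ (1 : ℤ) * (Units.map (σ : F →* F) d) ^ (0 : ℤ))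
      simp
    · show Units.map (σ : F →* F) d / c = c ^ (-1 : ℤ) * (Units.map (σ : F →* F) c) ^ (0 : ℤ) *
        (d ^ (0 : ℤ) * (Units.map (σ : F →* F) d) ^ (1 : ℤ))
      simp [div_eq_mul_inv, mul_comm]
    · show d / Units.map (σ : F →* F) c = c ^ (0 : ℤ) * (Units.map (σ : F →* F) c) ^ (-1 : ℤ) *
        (d ^ (1 : ℤ) * (Units.map (σ : F →* F) d) ^ (0 : ℤ))
      simp [div_eq_mul_inv, mul_comm]
    · show c⁻¹ = c ^ (-1 : ℤ) * (Units.map (σ : F →* F) c) ^ (0 : ℤ) * (d ^ (0 : ℤ) * (Units.map (σ : F →* F) d) ^ (0 : ℤ))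
      simp
    · show d⁻¹ = c ^ (0 : ℤ) * (Units.map (σ : F →* F) c) ^ (0 : ℤ) * (d ^ (-1 : ℤ) * (Units.map (σ : F →* F) d) ^ (0 : ℤ))
      simp
    · show c / Units.map (σ : F →* F) d = c ^ (1 : ℤ) * (Units.map (σ : F →* F) c) ^ (0 : ℤ) *
        (d ^ (0 : ℤ) * (Units.map (σ : F →* F) d) ^ (-1 : ℤ))
      simp [div_eq_mul_inv]
    · show Units.map (σ : F →* F) c / d = c ^ (0 : ℤ) * (Units.map (σ : F →* F) c) ^ (1 : ℤ) *
        (d ^ (-1 : ℤ) * (Units.map (σ : F →* F) d) ^ (0 : ℤ))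
      simp [div_eq_mul_inv]
  have h := key a
  exact h

theorem chO_fm (a : ZMod 8) (c d : Fˣ) : chO σ a c d = fm σ c d (LO a) := by
  unfold chO LO
  rw [chE_fm, chE_fm]
  unfold fm
  rw [Prod.fst_add, Prod.snd_add, ← pw_mul, ← pw_mul, mul_mul_mul_comm]

theorem good_EE : ∀ a b : ZMod 8, ¬ (b = a ∨ b = a + 4) → Good (det (LE a) (LE b)) := by decide +kernel
theorem good_EO : ∀ a b : ZMod 8, Good (det (LE a) (LO b)) := by decide +kernel
theorem good_OO : ∀ a b : ZMod 8, ¬ (b = a ∨ b = a + 4) → Good (det (LO a) (LO b)) := by decide +kernel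

end forms

variable {F : Type*} [Field F] {σ : F →+* F} {G : Type u} [Group G] (S : Full σ G)

theorem conv (a b : ℤ) : ((b : ZMod 8) = a ∨ (b : ZMod 8) = a + 4) ↔ (8 : ℤ) ∣ 2 * (b - a) := by
  have cast8 : ∀ n : ℤ, ((n : ZMod 8) = 0 ∨ (n : ZMod 8) = 4) ↔ (8 : ℤ) ∣ 2 * n := by
    intro n
    constructor
    · rintro (h | h)
      · have := (ZMod.intCast_zmod_eq_zero_iff_dvd n 8).1 h
        exact Dvd.dvd.mul_left (by exact_mod_cast this) 2
      · have h1 : ((n - 4 : ℤ) : ZMod 8) = 0 := by push_cast; rw [h]; decide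
        have := (ZMod.intCast_zmod_eq_zero_iff_dvd _ 8).1 h1
        omega
    · intro h
      obtain ⟨c, hc⟩ := h
      have hn : n = 4 * c := by omega
      obtain ⟨d, rfl | rfl⟩ := Int.even_or_odd' c
      · left
        rw [ZMod.intCast_zmod_eq_zero_iff_dvd]
        exact ⟨d, by rw [hn]; push_cast; ring⟩
      · right
        have h1 : ((n - 4 : ℤ) : ZMod 8) = 0 := by
          rw [ZMod.intCast_zmod_eq_zero_iff_dvd]
          exact ⟨d, by rw [hn]; push_cast; ring⟩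
        push_cast at h1
        exact sub_eq_zero.1 h1
  rw [← cast8]
  push_cast
  constructor
  · rintro (h | h)
    · left; rw [h, sub_self]
    · right; rw [h, add_sub_cancel_left]
  · rintro (h | h)
    · left; exact sub_eq_zero.1 h
    · right; rw [← h, add_sub_cancel]

/-- `t` has fixed points on `X_k` -/
def Fx (t : G) (k : ℤ) : Prop := ∃ x ∈ S.XZ k, x ≠ 1 ∧ t * x * t⁻¹ = x

theorem form_of_fx {c d : Fˣ} {k : ℤ} (h : Fx S (S.h c d) k) :
    (∃ a : ℤ, k = 2 * a ∧ fm σ c d (LE (a : ZMod 8)) = 1) ∨ ∃ a : ℤ, k = 2 * a + 1 ∧ fm σ c d (LO (a : ZMod 8)) = 1 := by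
  obtain ⟨x, hx, hx1, hf⟩ := h
  obtain ⟨a, rfl | rfl⟩ := Int.even_or_odd' k
  · left
    refine ⟨a, rfl, ?_⟩
    by_contra hne
    exact hx1 (fixX_even S (by rw [chE_fm]; exact hne) hx hf)
  · right
    refine ⟨a, rfl, ?_⟩
    by_contra hne
    exact hx1 (fixX_odd S (by rw [chO_fm]; exact hne) hx hf)

/-- **An element `≠ 1` of the torus has fixed points on at most one pair of opposite root groups.** -/
theorem one_pair {c d : Fˣ} (hcd : ¬ (c = 1 ∧ d = 1)) {k j : ℤ} (hk : Fx S (S.h c d) k) (hj : Fx S (S.h c d) j) :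
    (8 : ℤ) ∣ j - k := by
  have key : ∀ {L M : (ℤ × ℤ) × (ℤ × ℤ)}, fm σ c d L = 1 → fm σ c d M = 1 → ¬ Good (det L M) := by
    intro L M hL hM hg
    obtain ⟨h1, h2⟩ := fm_det S.sq hL hM
    exact hcd ⟨eq_one_of_good S hg h1, eq_one_of_good S hg h2⟩
  rcases form_of_fx S hk with ⟨a, rfl, ha⟩ | ⟨a, rfl, ha⟩ <;> rcases form_of_fx S hj with ⟨b, rfl, hb⟩ | ⟨b, rfl, hb⟩
  · have h1 : (b : ZMod 8) = a ∨ (b : ZMod 8) = a + 4 := by
      by_contra hne
      exact key ha hb (good_EE _ _ hne)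
    have := (conv a b).1 h1
    rwa [mul_sub] at this
  · exact absurd (good_EO _ _) (key ha hb)
  · exact absurd (good_EO _ _) (key hb ha)
  · have h1 : (b : ZMod 8) = a ∨ (b : ZMod 8) = a + 4 := by
      by_contra hne
      exact key ha hb (good_OO _ _ hne)
    have := (conv a b).1 h1
    have e : 2 * b + 1 - (2 * a + 1) = 2 * (b - a) := by ring
    rwa [e]

/-- a torus element without fixed points on `X_a, ..., X_(a+6)` has none on `J a (a+6)` -/
theorem free_J {t : G} (ht : t ∈ S.T) {a : ℤ} (h : ∀ k, a ≤ k → k ≤ a + 6 → ¬ Fx S t k) {u : G}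
    (hu : u ∈ J S.XZ a (a + 6)) (hf : t * u * t⁻¹ = u) : u = 1 := by
  have Z := S.zsys8
  have h1 : u ∈ S.XZ (a - 1) := by
    refine Arc.fix_X Z (a := a) (b := a + 6) (c := a - 1) (by omega) (fun j x hx => S.T_conj ht j hx) ?_ hu hf
    intro k h1 h2 _ x hx hxf
    by_contra hne
    exact h k h1 h2 ⟨x, hx, hne, hxf⟩
  exact Z.inter (a - 1) u h1 (J_mono (by omega) (by omega) hu)

theorem char_conj {χ : G → ℂ} (hχ : IsIrrCharacter G χ) (g x : G) : χ (g * x * g⁻¹) = χ x :=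
  Cfsg.Agent.Characters.Core.isIrr_isClassFunction hχ x g

/-- a cuspidal character vanishes at an element of the torus without fixed points on `J` -/
theorem zero_of_free {χ : G → ℂ} (hχ : IsIrrCharacter G χ) {a b : ℤ} (hab : b = a + 6) [Fintype (J S.XZ a b)]
    (hc : ∑ u : J S.XZ a b, χ u = 0) {t : G} (ht : t ∈ S.T) (h : ∀ k, a ≤ k → k ≤ a + 6 → ¬ Fx S t k) : χ t = 0 := by
  subst hab
  obtain ⟨n, ρ, hρ, rfl⟩ := hχ
  refine H710.Cuspidal.zero_of_regular ρ (J S.XZ a (a + 6)) hc (x := t) (fun u => ⟨fun hu => S.T_conj_J ht hu, fun hu => ?_⟩)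
    fun u hu hcomm => ?_
  · have := S.T_conj_J (inv_mem ht) hu
    rwa [show t⁻¹ * (t * u * t⁻¹) * t⁻¹⁻¹ = u by group] at this
  · refine free_J S ht h hu ?_
    rw [hcomm]
    group

theorem Fx_conj {t : G} (k : ℤ) {j : ℤ} (h : Fx S (S.rot ^ k * t * (S.rot ^ k)⁻¹) (j + 2 * k)) : Fx S t j := by
  obtain ⟨x, hx, hx1, hf⟩ := h
  refine ⟨(S.rot ^ k)⁻¹ * x * S.rot ^ k, ?_, ?_, ?_⟩
  · rw [← S.rotk_X k j, show S.rot ^ k * ((S.rot ^ k)⁻¹ * x * S.rot ^ k) * (S.rot ^ k)⁻¹ = x by group]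
    exact hx
  · intro h1
    apply hx1
    have : x = S.rot ^ k * ((S.rot ^ k)⁻¹ * x * S.rot ^ k) * (S.rot ^ k)⁻¹ := by group
    rw [this, h1]
    group
  · nth_rw 2 [← hf]
    group

theorem rot_T [Finite F] (k : ℤ) {t : G} (ht : t ∈ S.T) : S.rot ^ k * t * (S.rot ^ k)⁻¹ ∈ S.T := by
  have := Cfsg.Agent.H628.Sq.TwFNorm.conj_T_rot S (-k) ht
  rwa [zpow_neg, inv_inv] at this

/-- **A cuspidal character vanishes at the elements `≠ 1` of the torus.** -/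
theorem zero_at [Finite F] [Finite G] {χ : G → ℂ} (hχ : IsIrrCharacter G χ) [Fintype (J S.XZ 2 8)] [Fintype (J S.XZ 1 7)]
    (h28 : ∑ u : J S.XZ 2 8, χ u = 0) (h17 : ∑ u : J S.XZ 1 7, χ u = 0) {t : G} (ht : t ∈ S.T) (h1 : t ≠ 1) :
    χ t = 0 := by
  obtain ⟨c, d, rfl⟩ := S.mem_T.1 ht
  have hcd : ¬ (c = 1 ∧ d = 1) := by
    rintro ⟨rfl, rfl⟩
    exact h1 S.h_one
  by_cases hex : ∃ k, Fx S (S.h c d) k
  · obtain ⟨k, hk⟩ := hex
    obtain ⟨a, rfl | rfl⟩ := Int.even_or_odd' k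
    · -- even: move to `X_0`
      rw [← char_conj hχ (S.rot ^ (-a)) (S.h c d)]
      refine zero_of_free S hχ (a := 1) (b := 7) (by norm_num) h17 (rot_T S (-a) ht) fun j h2 h3 hj => ?_
      have h4 : Fx S (S.h c d) (j + 2 * a) := Fx_conj S (-a) (by
        rw [show j + 2 * a + 2 * -a = j by ring]
        exact hj)
      have h5 := one_pair S hcd hk h4
      rw [add_sub_cancel_right] at h5
      omega
    · rw [← char_conj hχ (S.rot ^ (-a)) (S.h c d)]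
      refine zero_of_free S hχ (a := 2) (b := 8) (by norm_num) h28 (rot_T S (-a) ht) fun j h2 h3 hj => ?_
      have h4 : Fx S (S.h c d) (j + 2 * a) := Fx_conj S (-a) (by
        rw [show j + 2 * a + 2 * -a = j by ring]
        exact hj)
      have h5 := one_pair S hcd hk h4
      have e : j + 2 * a - (2 * a + 1) = j - 1 := by ring
      rw [e] at h5
      omega
  · push Not at hex
    exact zero_of_free S hχ (a := 2) (b := 8) (by norm_num) h28 ht fun k _ _ => hex k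

theorem card_T [Finite F] : Nat.card S.T = (Nat.card F - 1) ^ 2 := by
  have hinj : Function.Injective fun x : Fˣ × Fˣ => (⟨S.h x.1 x.2, S.mem_T.2 ⟨_, _, rfl⟩⟩ : S.T) := by
    rintro ⟨a, b⟩ ⟨c, d⟩ e
    have e1 : S.h a b = S.h c d := congrArg Subtype.val e
    have e0 := S.h_e a b 0 1 0
    have e2 := S.h_e c d 0 1 0
    have e3 := S.h_e a b 1 1 0
    have e4 := S.h_e c d 1 1 0
    rw [e1] at e0 e3
    rw [e0] at e2
    rw [e3] at e4
    obtain ⟨a1, -⟩ := S.injE _ _ _ _ _ e2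
    obtain ⟨a2, -⟩ := S.injE _ _ _ _ _ e4
    rw [mul_one, mul_one, chE_zero, chE_zero] at a1
    rw [mul_one, mul_one, chE_one, chE_one] at a2
    exact Prod.ext (Units.ext a1) (Units.ext a2)
  have hsurj : Function.Surjective fun x : Fˣ × Fˣ => (⟨S.h x.1 x.2, S.mem_T.2 ⟨_, _, rfl⟩⟩ : S.T) := by
    rintro ⟨t, ht⟩
    obtain ⟨c, d, rfl⟩ := S.mem_T.1 ht
    exact ⟨(c, d), rfl⟩
  rw [← Nat.card_congr (Equiv.ofBijective _ ⟨hinj, hsurj⟩), Nat.card_prod, Cfsg.Agent.H42.Deg.F4.card_units, _root_.sq]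

/-- **`(q-1)²` divides the degrees of the cuspidal characters.** -/
theorem sq_dvd [Finite F] [Finite G] {χ : G → ℂ} (hχ : IsIrrCharacter G χ) [Fintype (J S.XZ 2 8)]
    [Fintype (J S.XZ 1 7)] (h28 : ∑ u : J S.XZ 2 8, χ u = 0) (h17 : ∑ u : J S.XZ 1 7, χ u = 0) :
    (Nat.card F - 1) ^ 2 ∣ charDegree χ := by
  classical
  have := Fintype.ofFinite S.T
  obtain ⟨m, hm⟩ := Cfsg.Agent.H710.Cuspidal.exists_mult S.T hχ
  rw [Finset.sum_eq_single (1 : S.T) (fun t _ ht => zero_at S hχ h28 h17 t.2 fun h1 => ht (Subtype.ext h1))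
    (fun h1 => absurd (Finset.mem_univ _) h1)] at hm
  refine ⟨m, ?_⟩
  rw [OneMemClass.coe_one, Cfsg.Agent.Blocks.Basic.irr_one_eq_charDegree hχ, card_T S] at hm
  exact_mod_cast hm

end Cfsg.Agent.H628.Sq.TwFTorus
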